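import Cfsg.Agent.Lib.Grp.HalfNormalizer.Bound

/-!
The orbit bound for an abstract action of prime degree, and the resulting dichotomy.
-/

set_option autoImplicit false

namespace Cfsg.Agent.Grp.HalfNormalizer

open MulAction

variable {G Ω : Type*} [Group G] [Finite G] [MulAction G Ω] [FaithfulSMul G Ω] [Finite Ω]
  {p : ℕ} [hp : Fact p.Prime]

/-- The hypotheses: an insoluble transitive group of prime degree with at least half of the affine
group normalising a Sylow subgroup. -/
structure Hyp (G Ω : Type*) [Group G] [MulAction G Ω] (p : ℕ) [Fact p.Prime] : Prop where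
  card : Nat.card Ω = p
  trans : IsPretransitive G Ω
  insoluble : ¬ Group.IsSolvable G
  coords : ∃ e : ZMod p ≃ Ω, (∃ σ : G, ∀ j, σ • e j = e (j + 1)) ∧
    ∀ u : ZMod p, u ≠ 0 → ∃ g : G, ∀ j, g • e j = e (u * u * j)

/-- The hypotheses from half of the affine group normalising a Sylow subgroup. -/
theorem Hyp.of_half (hΩ : Nat.card Ω = p) (htrans : IsPretransitive G Ω)
    (hins : ¬ Group.IsSolvable G) (P : Sylow p G)
    (hcard : p * (p - 1) ≤ 2 * Nat.card (Subgroup.normalizer ((P : Subgroup G) : Set G))) :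
    Hyp G Ω p := by
  classical
  have := Fintype.ofFinite Ω
  let f : G →* (MulAction.toPermHom G Ω).range := (MulAction.toPermHom G Ω).rangeRestrict
  have hf : Function.Injective f :=
    (MonoidHom.rangeRestrict_injective_iff).2 MulAction.toPerm_injective
  have hs : Function.Surjective f := MonoidHom.rangeRestrict_surjective _
  have : IsPretransitive (MulAction.toPermHom G Ω).range Ω :=
    ⟨fun x y => by
      obtain ⟨g, hg⟩ := MulAction.exists_smul_eq G x y
      exact ⟨f g, hg⟩⟩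
  have hα : Fintype.card Ω = p := by rw [← Nat.card_eq_fintype_card, hΩ]
  have hN : p * (p - 1) ≤ 2 * Nat.card (Subgroup.normalizer
      (((P.mapSurjective hs : Sylow p _) : Subgroup (MulAction.toPermHom G Ω).range) :
        Set (MulAction.toPermHom G Ω).range)) := by
    refine hcard.trans (Nat.mul_le_mul_left 2 ?_)
    rw [Nat.card_congr ((Subgroup.normalizer ((P : Subgroup G) : Set G)).equivMapOfInjective f hf).toEquiv]
    refine Subgroup.card_le_of_le ?_
    rw [Sylow.coe_mapSurjective]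
    exact Subgroup.le_normalizer_map f
  obtain ⟨a⟩ : Nonempty Ω := Fintype.card_pos_iff.1 (hα ▸ hp.out.pos)
  obtain ⟨e, -, ⟨⟨_, g, rfl⟩, hσ⟩, hsq⟩ := exists_square_multiplier hα (P.mapSurjective hs) hN a
  refine ⟨hΩ, htrans, hins, e, ⟨g, hσ⟩, fun u hu => ?_⟩
  obtain ⟨⟨_, k, rfl⟩, hk⟩ := hsq u hu
  exact ⟨k, hk⟩

theorem Hyp.two (h : Hyp G Ω p) {a b c d : Ω} (hab : a ≠ b) (hcd : c ≠ d) :
    ∃ g : G, g • a = c ∧ g • b = d := by
  classical
  have := Fintype.ofFinite Ω
  have := h.trans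
  let f : G →* (MulAction.toPermHom G Ω).range := (MulAction.toPermHom G Ω).rangeRestrict
  have hf : Function.Injective f :=
    (MonoidHom.rangeRestrict_injective_iff).2 MulAction.toPerm_injective
  have : IsPretransitive (MulAction.toPermHom G Ω).range Ω :=
    ⟨fun x y => by
      obtain ⟨g, hg⟩ := MulAction.exists_smul_eq G x y
      exact ⟨f g, hg⟩⟩
  have hα : Fintype.card Ω = p := by rw [← Nat.card_eq_fintype_card, h.card]
  have h2 := (Cfsg.Agent.S0675.result (hα ▸ hp.out) (MulAction.toPermHom G Ω).range).resolve_left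
    fun hsol => h.insoluble (solvable_of_solvable_injective hf)
  rw [MulAction.is_two_pretransitive_iff] at h2
  obtain ⟨⟨_, g, rfl⟩, hga, hgb⟩ := h2 hab hcd
  exact ⟨g, hga, hgb⟩

theorem Hyp.three_points (h : Hyp G Ω p) {a b : Ω} (hab : a ≠ b) (c : Fin 3 → Ω)
    (hca : ∀ i, c i ≠ a) (hcb : ∀ i, c i ≠ b) :
    ∃ i j, i ≠ j ∧ ∃ g : G, g • a = a ∧ g • b = b ∧ g • c i = c j := by
  classical
  have := Fintype.ofFinite Ω
  have := h.trans
  obtain ⟨e, ⟨σ, hσ⟩, hsq⟩ := h.coords
  let f : G →* (MulAction.toPermHom G Ω).range := (MulAction.toPermHom G Ω).rangeRestrict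
  have hf : Function.Injective f :=
    (MonoidHom.rangeRestrict_injective_iff).2 MulAction.toPerm_injective
  have : IsPretransitive (MulAction.toPermHom G Ω).range Ω :=
    ⟨fun x y => by
      obtain ⟨g, hg⟩ := MulAction.exists_smul_eq G x y
      exact ⟨f g, hg⟩⟩
  have hα : Fintype.card Ω = p := by rw [← Nat.card_eq_fintype_card, h.card]
  have hG : ¬ Group.IsSolvable (MulAction.toPermHom G Ω).range :=
    fun hsol => h.insoluble (solvable_of_solvable_injective hf)
  obtain ⟨i, j, hij, ⟨_, g, rfl⟩, ha, hb, hc⟩ := exists_mem_stabilizer_two hα hG e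
    ⟨f σ, hσ⟩ (fun u hu => (hsq u hu).elim fun k hk => ⟨f k, hk⟩) hab c hca hcb
  exact ⟨i, j, hij, g, ha, hb, hc⟩

/-- Either three-fold transitive, or each two-point stabiliser has two orbits on the other
points. -/
theorem Hyp.dichotomy (h : Hyp G Ω p) :
    IsMultiplyPretransitive G Ω 3 ∨ ∀ a b : Ω, a ≠ b → ∃ c d : Ω, c ≠ a ∧ c ≠ b ∧ d ≠ a ∧ d ≠ b ∧
      (∀ g : G, g • a = a → g • b = b → g • c ≠ d) ∧
      ∀ z, z ≠ a → z ≠ b → ∃ g : G, g • a = a ∧ g • b = b ∧ (g • c = z ∨ g • d = z) := by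
  by_cases hone : ∀ a b c d : Ω, a ≠ b → c ≠ a → c ≠ b → d ≠ a → d ≠ b →
      ∃ g : G, g • a = a ∧ g • b = b ∧ g • c = d
  · left
    refine ⟨fun x y => ?_⟩
    obtain ⟨g, g0, g1⟩ := h.two (x.injective.ne (show (0 : Fin 3) ≠ 1 by decide))
      (y.injective.ne (show (0 : Fin 3) ≠ 1 by decide))
    obtain ⟨k, k0, k1, k2⟩ := hone (y 0) (y 1) (g • x 2) (y 2)
      (y.injective.ne (by decide))
      (fun e => x.injective.ne (show (2 : Fin 3) ≠ 0 by decide)
        (MulAction.injective g (e.trans g0.symm)))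
      (fun e => x.injective.ne (show (2 : Fin 3) ≠ 1 by decide)
        (MulAction.injective g (e.trans g1.symm)))
      (y.injective.ne (by decide)) (y.injective.ne (by decide))
    refine ⟨k * g, Function.Embedding.ext fun i => ?_⟩
    fin_cases i
    · show (k * g) • x 0 = y 0
      rw [mul_smul, g0, k0]
    · show (k * g) • x 1 = y 1
      rw [mul_smul, g1, k1]
    · show (k * g) • x 2 = y 2
      rw [mul_smul, k2]
  · right
    push Not at hone
    obtain ⟨a₀, b₀, c₀, d₀, hab₀, hca, hcb, hda, hdb, hsep⟩ := hone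
    intro a b hab
    obtain ⟨t, ta, tb⟩ := h.two hab₀ hab
    have hne : ∀ {u v : Ω}, u ≠ v → t • u ≠ t • v := fun huv e => huv (MulAction.injective t e)
    refine ⟨t • c₀, t • d₀, ta ▸ hne hca, tb ▸ hne hcb, ta ▸ hne hda, tb ▸ hne hdb, ?_, ?_⟩
    · intro g ga gb e
      refine hsep (t⁻¹ * g * t) ?_ ?_ ?_ <;>
        simp only [mul_smul, inv_smul_eq_iff]
      · rw [ta, ga]
      · rw [tb, gb]
      · exact e
    · intro z hza hzb
      have hcd : ∀ g : G, g • a = a → g • b = b → g • (t • c₀) ≠ t • d₀ := by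
        intro g ga gb e
        refine hsep (t⁻¹ * g * t) ?_ ?_ ?_ <;>
          simp only [mul_smul, inv_smul_eq_iff]
        · rw [ta, ga]
        · rw [tb, gb]
        · exact e
      obtain ⟨i, j, hij, g, ga, gb, gc⟩ := h.three_points hab ![t • c₀, t • d₀, z]
        (fun i => by fin_cases i <;> [exact ta ▸ hne hca; exact ta ▸ hne hda; exact hza])
        (fun i => by fin_cases i <;> [exact tb ▸ hne hcb; exact tb ▸ hne hdb; exact hzb])
      have ga' : g⁻¹ • a = a := by rw [inv_smul_eq_iff, ga]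
      have gb' : g⁻¹ • b = b := by rw [inv_smul_eq_iff, gb]
      fin_cases i <;> fin_cases j
      · exact absurd rfl hij
      · exact absurd gc (hcd g ga gb)
      · exact ⟨g, ga, gb, Or.inl gc⟩
      · exact absurd (inv_smul_eq_iff.2 gc.symm) (hcd g⁻¹ ga' gb')
      · exact absurd rfl hij
      · exact ⟨g, ga, gb, Or.inr gc⟩
      · exact ⟨g⁻¹, ga', gb', Or.inl (inv_smul_eq_iff.2 gc.symm)⟩
      · exact ⟨g⁻¹, ga', gb', Or.inr (inv_smul_eq_iff.2 gc.symm)⟩
      · exact absurd rfl hij

end Cfsg.Agent.Grp.HalfNormalizer
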