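import Cfsg.Agent.S0675
import Cfsg.Agent.Lib.Block.PrimeDegreeModule

/-!
In an insoluble group of prime degree whose Sylow normaliser induces all square multipliers, a
two-point stabiliser has at most two orbits on the other points.
-/

set_option autoImplicit false

namespace Cfsg.Agent.Grp.HalfNormalizer

open Cfsg

variable {α : Type*} [Fintype α] [DecidableEq α] {p : ℕ} [Fact p.Prime]
  {G : Subgroup (Equiv.Perm α)}

/-- A stabiliser-invariant function killing enough of the coordinate function is constant. -/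
theorem eq_const_of_sum_eq_zero (hα : Fintype.card α = p) (hp2 : 2 < p)
    [MulAction.IsPretransitive G α] (hG : ¬ Group.IsSolvable G) (e : ZMod p ≃ α)
    (hσ : ∃ σ : G, ∀ j, (σ : Equiv.Perm α) (e j) = e (j + 1))
    (hsq : ∀ u : ZMod p, u ≠ 0 → ∃ g : G, ∀ j, (g : Equiv.Perm α) (e j) = e (u * u * j))
    {ν : ZMod p} (hν : ¬ IsSquare ν) (g₁ : G) (h10 : (g₁ : Equiv.Perm α) (e 0) = e 0)
    (h11 : (g₁ : Equiv.Perm α) (e 1) = e ν)
    (ψ : α → ZMod p)
    (hinv : ∀ h : G, (h : Equiv.Perm α) (e 0) = e 0 → (h : Equiv.Perm α) (e 1) = e 1 →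
      ∀ z, ψ ((h : Equiv.Perm α) z) = ψ z)
    (hs : ∑ z, ψ z = 0) (hc0 : ∑ z, ψ z * e.symm z = 0)
    (hc1 : ∑ z, ψ z * e.symm ((g₁ : Equiv.Perm α) z) = 0) :
    ∀ z, ψ z = ψ (e 0) := by
  classical
  let T : Subrepresentation (permRep (ZMod p) G α) :=
    { toSubmodule :=
        { carrier := {v | ∑ z, v z = 0 ∧ ∀ g : G, ∑ z, ψ z * v (g • z) = 0}
          zero_mem' := by simp
          add_mem' := by
            rintro v w ⟨hv1, hv2⟩ ⟨hw1, hw2⟩
            refine ⟨by simp [Finset.sum_add_distrib, hv1, hw1], fun g => ?_⟩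
            simp [mul_add, Finset.sum_add_distrib, hv2 g, hw2 g]
          smul_mem' := by
            rintro c v ⟨hv1, hv2⟩
            refine ⟨by simp [← Finset.mul_sum, hv1], fun g => ?_⟩
            simp [mul_left_comm _ c, ← Finset.mul_sum, hv2 g] }
      apply_mem_toSubmodule := by
        rintro g v ⟨hv1, hv2⟩
        refine ⟨?_, fun k => ?_⟩
        · show ∑ z, v (g⁻¹ • z) = 0
          exact (Equiv.sum_comp (MulAction.toPerm g⁻¹) v).trans hv1
        · show ∑ z, ψ z * v (g⁻¹ • k • z) = 0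
          simp only [← mul_smul]
          exact hv2 (g⁻¹ * k) }
  have hC : (permConstants (ZMod p) G α).toSubmodule ≤ T.toSubmodule := by
    refine (Submodule.span_singleton_le_iff_mem _ _).2 ⟨?_, fun g => ?_⟩
    · simp [hα]
    · simp [hs]
  have hS : T.toSubmodule ≤ (permSumZero (ZMod p) G α).toSubmodule := fun v hv => hv.1
  let x₀ : α → ZMod p := fun z => e.symm z
  have hx₀ : x₀ ∈ T.toSubmodule := by
    refine ⟨?_, fun g => ?_⟩
    · show ∑ z, e.symm z = 0
      rw [e.symm.sum_comp (fun j => j)]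
      simpa using FiniteField.sum_pow_lt_card_sub_one (ZMod p) 1 (by rw [ZMod.card]; omega)
    obtain ⟨σ, hσ⟩ := hσ
    have hσn : ∀ (n : ℕ) j, ((σ ^ n : G) : Equiv.Perm α) (e j) = e (j + n) := by
      intro n
      induction n with
      | zero => simp
      | succ n ih =>
        intro j
        rw [pow_succ', Subgroup.coe_mul, Equiv.Perm.mul_apply, ih, hσ, Nat.cast_succ, add_assoc]
    obtain ⟨x, hx⟩ := e.surjective ((g : Equiv.Perm α) (e 0))
    obtain ⟨y, hy⟩ := e.surjective ((g : Equiv.Perm α) (e 1))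
    have hd : y - x ≠ 0 := by
      intro h
      rw [sub_eq_zero] at h
      rw [h, hx] at hy
      exact zero_ne_one (e.injective ((g : Equiv.Perm α).injective hy))
    -- a representative of the pair `(0, 1)` up to squares
    obtain ⟨g₀, r, h00, h01, hr, hsum⟩ : ∃ (g₀ : G) (r : ZMod p),
        (g₀ : Equiv.Perm α) (e 0) = e 0 ∧ (g₀ : Equiv.Perm α) (e 1) = e r ∧
          IsSquare ((y - x) * r) ∧ ∑ z, ψ z * e.symm ((g₀ : Equiv.Perm α) z) = 0 := by
      by_cases h : IsSquare (y - x)
      · exact ⟨1, 1, rfl, rfl, by rwa [mul_one], by simpa using hc0⟩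
      · refine ⟨g₁, ν, h10, h11, ?_, hc1⟩
        have hν0 : ν ≠ 0 := by rintro rfl; exact hν IsSquare.zero
        rw [ZMod.euler_criterion p (mul_ne_zero hd hν0), mul_pow]
        rw [ZMod.euler_criterion p hd] at h
        rw [ZMod.euler_criterion p hν0] at hν
        rw [(ZMod.pow_div_two_eq_neg_one_or_one p hd).resolve_left h,
          (ZMod.pow_div_two_eq_neg_one_or_one p hν0).resolve_left hν, neg_mul_neg, one_mul]
    obtain ⟨s, hs'⟩ := hr
    have hr0 : r ≠ 0 := by
      rintro rfl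
      exact zero_ne_one (e.injective ((g₀ : Equiv.Perm α).injective (h00.trans h01.symm)))
    have hs0 : s / r ≠ 0 := by
      refine div_ne_zero (fun h => ?_) hr0
      rw [h, mul_zero] at hs'
      exact mul_ne_zero hd hr0 hs'
    obtain ⟨τ, hτ⟩ := hsq (s / r) hs0
    have hm : s / r * (s / r) * r = y - x := by
      field_simp
      linear_combination -hs'
    set k : G := (σ ^ x.val * τ * g₀)⁻¹ * g with hk
    have hg : g = σ ^ x.val * τ * g₀ * k := by rw [hk, mul_inv_cancel_left]
    have hk0 : (k : Equiv.Perm α) (e 0) = e 0 := by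
      apply ((σ ^ x.val * τ * g₀ : G) : Equiv.Perm α).injective
      rw [← Equiv.Perm.mul_apply, ← Subgroup.coe_mul, ← hg, ← hx, Subgroup.coe_mul,
        Subgroup.coe_mul, Equiv.Perm.mul_apply, Equiv.Perm.mul_apply, h00, hτ, hσn, mul_zero,
        zero_add, ZMod.natCast_zmod_val]
    have hk1 : (k : Equiv.Perm α) (e 1) = e 1 := by
      apply ((σ ^ x.val * τ * g₀ : G) : Equiv.Perm α).injective
      rw [← Equiv.Perm.mul_apply, ← Subgroup.coe_mul, ← hg, ← hy, Subgroup.coe_mul,
        Subgroup.coe_mul, Equiv.Perm.mul_apply, Equiv.Perm.mul_apply, h01, hτ, hσn, hm,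
        ZMod.natCast_zmod_val, sub_add_cancel]
    have hval : ∀ z, e.symm ((g : Equiv.Perm α) z) =
        s / r * (s / r) * e.symm ((g₀ : Equiv.Perm α) ((k : Equiv.Perm α) z)) + x := by
      intro z
      conv_lhs => rw [hg]
      simp only [Subgroup.coe_mul, Equiv.Perm.mul_apply]
      rw [← e.apply_symm_apply ((g₀ : Equiv.Perm α) _), hτ, hσn, ZMod.natCast_zmod_val]
      simp
    show ∑ z, ψ z * e.symm ((g : Equiv.Perm α) z) = 0
    simp only [hval, mul_add, Finset.sum_add_distrib, ← Finset.sum_mul, hs, zero_mul, add_zero]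
    rw [show ∑ z, ψ z * (s / r * (s / r) * e.symm ((g₀ : Equiv.Perm α) ((k : Equiv.Perm α) z)))
        = s / r * (s / r) * ∑ z, ψ ((k : Equiv.Perm α) z) *
            e.symm ((g₀ : Equiv.Perm α) ((k : Equiv.Perm α) z)) by
      rw [Finset.mul_sum]
      exact Finset.sum_congr rfl fun z _ => by rw [hinv k hk0 hk1 z]; ring]
    rw [(k : Equiv.Perm α).sum_comp _ (fun z => ψ z * e.symm ((g₀ : Equiv.Perm α) z))
      (fun _ _ => Finset.mem_univ _), hsum, mul_zero]
  rcases Cfsg.Agent.Block.heart_irreducible hα G hG T hC hS with hT | hT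
  · exfalso
    rw [hT] at hx₀
    obtain ⟨c, hc⟩ := Submodule.mem_span_singleton.1 hx₀
    have h7 := congrFun hc (e 0)
    have h8 := congrFun hc (e 1)
    simp only [x₀, Equiv.symm_apply_apply, Pi.smul_apply, smul_eq_mul, mul_one] at h7 h8
    exact zero_ne_one (h7.symm.trans h8)
  · intro z
    have h1 : (fun w => if w = z then (1 : ZMod p) else 0) - (fun w => if w = e 0 then 1 else 0)
        ∈ T.toSubmodule := by
      rw [hT]
      show ∑ w, ((if w = z then (1 : ZMod p) else 0) - (if w = e 0 then 1 else 0)) = 0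
      simp
    have h2 := h1.2 1
    simp only [one_smul, Pi.sub_apply, mul_sub, mul_ite, mul_one, mul_zero,
      Finset.sum_sub_distrib, Finset.sum_ite_eq', Finset.mem_univ, if_true, sub_eq_zero] at h2
    exact h2

/-- All square multipliers come from the group when the Sylow normaliser has index at most two
in the affine group. -/
theorem exists_square_multiplier (hα : Fintype.card α = p) [MulAction.IsPretransitive G α]
    (P : Sylow p G)
    (hN : p * (p - 1) ≤ 2 * Nat.card (Subgroup.normalizer ((P : Subgroup G) : Set G))) (a : α) :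
    ∃ e : ZMod p ≃ α, e 0 = a ∧ (∃ σ : G, ∀ j, (σ : Equiv.Perm α) (e j) = e (j + 1)) ∧
      ∀ u : ZMod p, u ≠ 0 → ∃ g : G, ∀ j, (g : Equiv.Perm α) (e j) = e (u * u * j) := by
  classical
  obtain ⟨σ, hσP, hgen, -, e, he0, hσ⟩ := Cfsg.Agent.Block.exists_zmod_equiv hα G P a
  refine ⟨e, he0, ⟨σ, hσ⟩, ?_⟩
  have hσn : ∀ (n : ℕ) j, ((σ ^ n : G) : Equiv.Perm α) (e j) = e (j + n) := by
    intro n
    induction n with
    | zero => simp
    | succ n ih =>
      intro j
      rw [pow_succ', Subgroup.coe_mul, Equiv.Perm.mul_apply, ih, hσ, Nat.cast_succ, add_assoc]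
  let M : Subgroup (ZMod p)ˣ :=
    { carrier := {u | ∃ g : G, ∀ j, (g : Equiv.Perm α) (e j) = e ((u : ZMod p) * j)}
      one_mem' := ⟨1, fun j => by simp⟩
      mul_mem' := by
        rintro u v ⟨g, hg⟩ ⟨h, hh⟩
        exact ⟨g * h, fun j => by simp [hg, hh, mul_assoc]⟩
      inv_mem' := by
        rintro u ⟨g, hg⟩
        refine ⟨g⁻¹, fun j => ?_⟩
        rw [Subgroup.coe_inv, Equiv.Perm.inv_eq_iff_eq, hg, ← mul_assoc, u.mul_inv, one_mul] }
  have haff : ∀ t : Subgroup.normalizer ((P : Subgroup G) : Set G),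
      ∃ m : M, ∀ j, ((t : G) : Equiv.Perm α) (e j) =
        e (e.symm (((t : G) : Equiv.Perm α) (e 0)) + ((m : (ZMod p)ˣ) : ZMod p) * j) := by
    intro t
    obtain ⟨i, hi⟩ := hgen _ ((Subgroup.mem_normalizer_iff.1 t.2 σ).1 hσP)
    set x := e.symm (((t : G) : Equiv.Perm α) (e 0)) with hx
    have hlin : ∀ j, ((t : G) : Equiv.Perm α) (e j) = e (x + (i : ZMod p) * j) := by
      intro j
      rw [← ZMod.natCast_zmod_val j]
      induction j.val with
      | zero => simp [hx]
      | succ n ih =>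
        have h1 := DFunLike.congr_fun (congrArg Subtype.val hi) (((t : G) : Equiv.Perm α) (e n))
        simp only [Subgroup.coe_mul, Subgroup.coe_inv, Equiv.Perm.mul_apply, Equiv.Perm.coe_inv,
          Equiv.symm_apply_apply, hσ] at h1
        rw [Nat.cast_succ, h1, ih, hσn]
        ring_nf
    have hi0 : (i : ZMod p) ≠ 0 := by
      intro h
      have h1 := hlin 1
      rw [h, zero_mul, add_zero, hx, e.apply_symm_apply] at h1
      exact zero_ne_one (e.injective (((t : G) : Equiv.Perm α).injective h1.symm))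
    refine ⟨⟨Units.mk0 _ hi0, (σ ^ x.val)⁻¹ * (t : G), fun j => ?_⟩, hlin⟩
    rw [Subgroup.coe_mul, Equiv.Perm.mul_apply, hlin, Subgroup.coe_inv,
      Equiv.Perm.inv_eq_iff_eq, hσn, ZMod.natCast_zmod_val, Units.val_mk0, add_comm]
  choose m hm using haff
  have hinj : Function.Injective fun t : Subgroup.normalizer ((P : Subgroup G) : Set G) =>
      (e.symm (((t : G) : Equiv.Perm α) (e 0)), m t) := by
    intro t t' h
    simp only [Prod.mk.injEq] at h
    obtain ⟨h1, h2⟩ := h
    apply Subtype.ext; apply Subtype.ext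
    refine Equiv.ext fun z => ?_
    rw [← e.apply_symm_apply z, hm t, hm t', h1, h2]
  have hp : p.Prime := Fact.out
  have hcard := Nat.card_le_card_of_injective _ hinj
  rw [Nat.card_prod, Nat.card_zmod] at hcard
  have hidx : M.index ≤ 2 := by
    have h1 := M.card_mul_index
    rw [Nat.card_eq_fintype_card (α := (ZMod p)ˣ), ZMod.card_units p] at h1
    have h2 : p * (p - 1) ≤ p * (2 * Nat.card M) := by
      calc p * (p - 1) ≤ _ := hN
        _ ≤ 2 * (p * Nat.card M) := Nat.mul_le_mul_left 2 hcard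
        _ = _ := by ring
    have h3 := Nat.le_of_mul_le_mul_left h2 hp.pos
    rw [← h1, mul_comm 2] at h3
    exact Nat.le_of_mul_le_mul_left h3 Nat.card_pos
  intro u hu
  have h0 : 0 < M.index := Nat.pos_of_ne_zero Subgroup.index_ne_zero_of_finite
  suffices h : Units.mk0 u hu * Units.mk0 u hu ∈ M by
    obtain ⟨g, hg⟩ := h
    exact ⟨g, fun j => by simpa using hg j⟩
  rcases (show M.index = 1 ∨ M.index = 2 by omega) with h | h
  · rw [Subgroup.index_eq_one.1 h]
    trivial
  · exact Subgroup.mul_self_mem_of_index_two h _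

/-- A two-point stabiliser has at most two orbits on the other points. -/
theorem exists_mem_stabilizer_two (hα : Fintype.card α = p) [MulAction.IsPretransitive G α]
    (hG : ¬ Group.IsSolvable G) (e : ZMod p ≃ α)
    (hσ : ∃ σ : G, ∀ j, (σ : Equiv.Perm α) (e j) = e (j + 1))
    (hsq : ∀ u : ZMod p, u ≠ 0 → ∃ g : G, ∀ j, (g : Equiv.Perm α) (e j) = e (u * u * j))
    {a b : α} (hab : a ≠ b) (c : Fin 3 → α) (hca : ∀ i, c i ≠ a) (hcb : ∀ i, c i ≠ b) :
    ∃ i j, i ≠ j ∧ ∃ g : G, (g : Equiv.Perm α) a = a ∧ (g : Equiv.Perm α) b = b ∧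
      (g : Equiv.Perm α) (c i) = c j := by
  classical
  have hp2 : 2 < p := by
    by_contra h
    exact hG (Cfsg.Agent.Block.isSolvable_of_card_le_three hα (by omega) G)
  have h2 : MulAction.IsMultiplyPretransitive G α 2 :=
    (Cfsg.Agent.S0675.result (hα ▸ Fact.out) G).resolve_left hG
  rw [MulAction.is_two_pretransitive_iff] at h2
  obtain ⟨k, hk0, hk1⟩ := h2 hab (fun h => zero_ne_one (e.injective h) : e 0 ≠ e 1)
  rw [Subgroup.smul_def, Equiv.Perm.smul_def] at hk0 hk1
  obtain ⟨ν, hν⟩ := FiniteField.exists_nonsquare (F := ZMod p) (by rw [ZMod.ringChar_zmod_n]; omega)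
  have hν0 : ν ≠ 0 := by rintro rfl; exact hν IsSquare.zero
  obtain ⟨g₁, h10, h11⟩ := h2 (fun h => zero_ne_one (e.injective h) : e 0 ≠ e 1)
    (fun h => hν0 (e.injective h).symm : e 0 ≠ e ν)
  rw [Subgroup.smul_def, Equiv.Perm.smul_def] at h10 h11
  by_contra hcon
  -- the indicators of the orbits
  let pts : Fin 4 → α := Fin.cons (e 1) fun i => (k : Equiv.Perm α) (c i)
  let f : Fin 4 → α → ZMod p := fun i z =>
    if ∃ h : G, (h : Equiv.Perm α) (e 0) = e 0 ∧ (h : Equiv.Perm α) (e 1) = e 1 ∧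
      (h : Equiv.Perm α) (pts i) = z then 1 else 0
  have hfinv : ∀ i (h : G), (h : Equiv.Perm α) (e 0) = e 0 → (h : Equiv.Perm α) (e 1) = e 1 →
      ∀ z, f i ((h : Equiv.Perm α) z) = f i z := by
    intro i h h0 h1 z
    refine if_congr ⟨?_, ?_⟩ rfl rfl
    · rintro ⟨l, l0, l1, hl⟩
      refine ⟨h⁻¹ * l, ?_, ?_, ?_⟩ <;>
        rw [Subgroup.coe_mul, Equiv.Perm.mul_apply, Subgroup.coe_inv, Equiv.Perm.inv_eq_iff_eq]
      · rw [l0, h0]
      · rw [l1, h1]
      · exact hl
    · rintro ⟨l, l0, l1, hl⟩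
      exact ⟨h * l, by simp [l0, h0], by simp [l1, h1], by simp [hl]⟩
  have hsep : ∀ i j, f i (pts j) = if i = j then 1 else 0 := by
    intro i j
    split_ifs with hij
    · subst hij
      exact if_pos ⟨1, rfl, rfl, rfl⟩
    refine if_neg ?_
    rintro ⟨h, h0, h1, hh⟩
    refine Fin.cases ?_ (fun i' => ?_) i hh hij <;> refine Fin.cases ?_ (fun j' => ?_) j
    · exact fun _ h => h rfl
    · intro hh _
      simp only [pts, Fin.cons_zero, Fin.cons_succ, h1] at hh
      rw [← hk1] at hh
      exact hcb j' ((k : Equiv.Perm α).injective hh).symm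
    · intro hh _
      simp only [pts, Fin.cons_zero, Fin.cons_succ] at hh
      rw [← h1] at hh
      have h2 := (h : Equiv.Perm α).injective hh
      rw [← hk1] at h2
      exact hcb i' ((k : Equiv.Perm α).injective h2)
    · intro hh hij
      simp only [pts, Fin.cons_succ] at hh
      refine hcon ⟨i', j', fun h => hij (h ▸ rfl), k⁻¹ * h * k, ?_, ?_, ?_⟩ <;>
        simp only [Subgroup.coe_mul, Equiv.Perm.mul_apply, Subgroup.coe_inv,
          Equiv.Perm.inv_eq_iff_eq]
      · rw [hk0, h0]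
      · rw [hk1, h1]
      · exact hh
  have hf0 : ∀ i, f i (e 0) = 0 := by
    intro i
    refine if_neg ?_
    rintro ⟨h, h0, h1, hh⟩
    have h3 : pts i = e 0 := (h : Equiv.Perm α).injective (hh.trans h0.symm)
    refine Fin.cases ?_ (fun i' => ?_) i h3
    · intro h4
      exact zero_ne_one (e.injective h4).symm
    · intro h4
      simp only [pts, Fin.cons_succ, ← hk0] at h4
      exact hca i' ((k : Equiv.Perm α).injective h4)
  let Λ : (Fin 4 → ZMod p) →ₗ[ZMod p] (Fin 3 → ZMod p) :=
    { toFun := fun w => ![∑ z, ∑ i, w i * f i z, ∑ z, (∑ i, w i * f i z) * e.symm z,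
          ∑ z, (∑ i, w i * f i z) * e.symm ((g₁ : Equiv.Perm α) z)]
      map_add' := fun v w => by
        funext r
        fin_cases r <;> simp [add_mul, Finset.sum_add_distrib]
      map_smul' := fun v w => by
        funext r
        fin_cases r <;> simp [mul_assoc, Finset.mul_sum, Finset.sum_mul] }
  have hinj : Function.Injective Λ := by
    refine (injective_iff_map_eq_zero Λ).2 fun w hw => funext fun j => ?_
    have hz := eq_const_of_sum_eq_zero hα hp2 hG e hσ hsq hν g₁ h10 h11 (fun z => ∑ i, w i * f i z)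
      (fun h h0 h1 z => Finset.sum_congr rfl fun i _ => by rw [hfinv i h h0 h1 z])
      (congrFun hw 0) (congrFun hw 1) (congrFun hw 2) (pts j)
    simpa [hsep, hf0] using hz
  have := LinearMap.finrank_le_finrank_of_injective hinj
  simp at this

end Cfsg.Agent.Grp.HalfNormalizer
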