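import Mathlib

/-!
An integral element `x` of the group ring of a cyclic group of odd order with `x ^ 3 = d ^ 2 * x`
up to multiples of the sum of all elements, whose coefficients off the identity are zero or one.
-/

set_option autoImplicit false

namespace Cfsg.Agent.Grp.HalfNormalizer

variable {Q : Type*} [CommGroup Q] [Fintype Q] {R : Type*} [CommRing R]

/-- The group ring element with given coefficients. -/
noncomputable def el (f : Q → R) : MonoidAlgebra R Q := ∑ t, MonoidAlgebra.single t (f t)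

theorem el_coeff [DecidableEq Q] (f : Q → R) (s : Q) : (el f).coeff s = f s := by
  simp [el, Finsupp.single_apply]

theorem el_self (z : MonoidAlgebra R Q) : el (fun s => z.coeff s) = z := by
  classical
  ext s
  exact el_coeff _ s

instance charP_el {n : ℕ} [CharP R n] : CharP (MonoidAlgebra R Q) n :=
  charP_of_injective_algebraMap
    (FaithfulSMul.algebraMap_injective R (MonoidAlgebra R Q)) n

theorem el_ext {f g : Q → R} (h : el f = el g) : f = g := by
  classical
  funext s
  rw [← el_coeff f s, h, el_coeff]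

theorem el_mul (f g : Q → R) : el f * el g = el (fun s => ∑ t, f t * g (t⁻¹ * s)) := by
  classical
  ext s
  rw [el_coeff]
  simp only [el, Finset.mul_sum, Finset.sum_mul, MonoidAlgebra.single_mul_single,
    MonoidAlgebra.coeff_sum, Finsupp.finsetSum_apply, MonoidAlgebra.coeff_single, Finsupp.single_apply]
  rw [Finset.sum_comm]
  refine Finset.sum_congr rfl fun t _ => ?_
  rw [Finset.sum_eq_single (t⁻¹ * s)]
  · rw [if_pos (mul_inv_cancel_left t s)]
  · intro u _ hu
    rw [if_neg fun h => hu (by rw [← h, inv_mul_cancel_left])]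
  · exact fun h => absurd (Finset.mem_univ _) h

theorem el_add (f g : Q → R) : el f + el g = el (f + g) := by
  simp [el, MonoidAlgebra.single_add, Finset.sum_add_distrib]

theorem el_smul (c : R) (f : Q → R) : c • el f = el (c • f) := by
  simp [el, Finset.smul_sum, MonoidAlgebra.smul_single]

theorem el_mul_one (f : Q → R) : el f * el (fun _ => 1) = (∑ t, f t) • el (fun _ => (1 : R)) := by
  rw [el_mul, el_smul]
  congr 1
  funext s
  simp

/-- Augmentation. -/
theorem sum_mul_el (f g : Q → R) :
    ∑ s, ∑ t, f t * g (t⁻¹ * s) = (∑ t, f t) * ∑ t, g t := by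
  rw [Finset.sum_comm, Finset.sum_mul]
  refine Finset.sum_congr rfl fun t _ => ?_
  rw [← Finset.mul_sum]
  congr 1
  exact Fintype.sum_equiv (Equiv.mulLeft t⁻¹) _ _ fun s => rfl

theorem cast_el_eq (f : Q → ℤ) :
    MonoidAlgebra.mapRingHom Q (Int.castRingHom R) (el f) = el (fun s => (f s : R)) := by
  simp [el, map_sum]

/-- The congruence satisfied by a prime power of `x`. -/
theorem pow_prime_congr (hm : Odd (Fintype.card Q)) (x : Q → ℤ) {d c : ℤ}
    (hx : el x ^ 3 = d ^ 2 • el x + c • el (fun _ => 1)) (l : ℕ) [hl : Fact l.Prime] :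
    ∃ κ : ZMod l, el (fun s => (x s : ZMod l)) ^ l =
      (d : ZMod l) ^ (l - 1) • el (fun s => (x s : ZMod l)) + κ • el (fun _ => (1 : ZMod l)) := by
  classical
  set X := el (fun s => (x s : ZMod l)) with hX
  set J := el (fun _ : Q => (1 : ZMod l)) with hJ
  have h3 : X ^ 3 = (d : ZMod l) ^ 2 • X + (c : ZMod l) • J := by
    have := congrArg (MonoidAlgebra.mapRingHom Q (Int.castRingHom (ZMod l))) hx
    rw [map_pow, cast_el_eq, el_smul, el_smul, el_add, cast_el_eq] at this
    rw [hX, hJ, this, el_smul, el_smul, el_add]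
    congr 1
    funext s
    simp
  have hXJ : X * J = (∑ t, (x t : ZMod l)) • J := el_mul_one _
  have hodd : ∀ j, ∃ κ : ZMod l, X ^ (2 * j + 1) = (d : ZMod l) ^ (2 * j) • X + κ • J := by
    intro j
    induction j with
    | zero => exact ⟨0, by simp⟩
    | succ j ih =>
      obtain ⟨κ, hκ⟩ := ih
      refine ⟨(d : ZMod l) ^ (2 * j) * c + κ * (∑ t, (x t : ZMod l)) * ∑ t, (x t : ZMod l), ?_⟩
      rw [show 2 * (j + 1) + 1 = (2 * j + 1) + 2 by ring, pow_add, hκ, add_mul, smul_mul_assoc,
        ← pow_succ', h3, smul_mul_assoc, sq X, ← mul_assoc, mul_comm J, hXJ, smul_mul_assoc,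
        mul_comm J, hXJ, smul_add, smul_smul, smul_smul, smul_smul, smul_smul, add_smul, add_assoc,
        ← pow_add, mul_add 2 j 1, mul_one]
  rcases hl.out.eq_two_or_odd with h2 | h2
  · subst h2
    refine ⟨(c : ZMod 2) * ∑ t, (x t : ZMod 2), ?_⟩
    set w := (c : ZMod 2) * ∑ t, (x t : ZMod 2) with hw
    have h4 : X ^ 4 = (d : ZMod 2) ^ 2 • X ^ 2 + w • J := by
      rw [pow_succ, h3, add_mul, smul_mul_assoc, smul_mul_assoc, mul_comm J, hXJ, smul_smul, ← sq, hw]
    have hinj : Function.Injective (fun s : Q => s ^ 2) := by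
      intro a b hab
      obtain ⟨k, hk⟩ := hm
      have h1 : ∀ z : Q, (z ^ 2) ^ (k + 1) = z := fun z => by
        rw [← pow_mul, show 2 * (k + 1) = Fintype.card Q + 1 by omega, pow_succ,
          pow_card_eq_one, one_mul]
      rw [← h1 a, ← h1 b]
      exact congrArg (· ^ (k + 1)) hab
    have sq2 : ∀ u : ZMod 2, u ^ 2 = u := fun u => ZMod.pow_card u
    have add2 : ∀ u : MonoidAlgebra (ZMod 2) Q, u + u = 0 := fun u => by
      rw [← two_smul (ZMod 2) u, show (2 : ZMod 2) = 0 from rfl, zero_smul]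
    have hJ2 : J * J = J := by
      rw [hJ, el_mul_one]
      obtain ⟨k, hk⟩ := hm
      simp [hk, show (2 : ZMod 2) = 0 from rfl]
    set Z := X ^ 2 + (d : ZMod 2) • X + w • J with hZ
    have hZ0 : Z ^ 2 = 0 := by
      rw [hZ, add_pow_char, add_pow_char, smul_pow, smul_pow, sq J, hJ2, ← pow_mul, h4, sq2 w,
        add_right_comm ((d : ZMod 2) ^ 2 • X ^ 2) (w • J), add2, zero_add, add2]
    have hz : ∀ t, Z.coeff t = 0 := by
      intro t
      have h0 := hZ0
      rw [← el_self Z, el, sum_pow_char 2] at h0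
      have h1 := congrArg (fun u : MonoidAlgebra (ZMod 2) Q => u.coeff (t ^ 2)) h0
      simp only [MonoidAlgebra.single_pow, MonoidAlgebra.coeff_sum, Finsupp.finsetSum_apply,
        MonoidAlgebra.coeff_single, Finsupp.single_apply, sq2] at h1
      rw [Finset.sum_eq_single t (fun u _ hu => if_neg fun e => hu (hinj e))
        (fun h => absurd (Finset.mem_univ t) h), if_pos rfl] at h1
      simpa using h1
    have h0 : Z = 0 := by ext t; simpa using hz t
    rw [hZ, add_assoc, add_eq_zero_iff_eq_neg] at h0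
    rw [show (2 : ℕ) - 1 = 1 from rfl, pow_one, h0, neg_eq_iff_add_eq_zero, add2]
  · obtain ⟨j, hj⟩ : ∃ j, l = 2 * j + 1 := ⟨l / 2, by omega⟩
    obtain ⟨κ, hκ⟩ := hodd j
    exact ⟨κ, by rw [show l - 1 = 2 * j by omega, show X ^ l = X ^ (2 * j + 1) by rw [← hj]]; exact hκ⟩

/-- The coefficient form of the congruence. -/
theorem sum_root_congr [DecidableEq Q] (hm : Odd (Fintype.card Q)) (x : Q → ℤ) {d c : ℤ}
    (hx : el x ^ 3 = d ^ 2 • el x + c • el (fun _ => 1)) (l : ℕ) [hl : Fact l.Prime] :
    ∃ κ : ZMod l, ∀ s, ∑ t ∈ Finset.univ.filter (fun t : Q => t ^ l = s), (x t : ZMod l) =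
      (d : ZMod l) ^ (l - 1) * x s + κ := by
  obtain ⟨κ, hκ⟩ := pow_prime_congr hm x hx l
  refine ⟨κ, fun s => ?_⟩
  rw [el_smul, el_smul, el_add] at hκ
  have := congrArg (fun u : MonoidAlgebra (ZMod l) Q => u.coeff s) hκ
  simp only [el_coeff, Pi.add_apply, Pi.smul_apply, smul_eq_mul, mul_one] at this
  rw [← this, el, sum_pow_char l]
  simp only [MonoidAlgebra.single_pow, MonoidAlgebra.coeff_sum, Finsupp.finsetSum_apply,
    MonoidAlgebra.coeff_single, Finsupp.single_apply, ZMod.pow_card, Finset.sum_filter]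

theorem eq_of_cast_eq {l : ℕ} (hl : 1 < l) {a b : ℤ} (ha : a = 0 ∨ a = 1) (hb : b = 0 ∨ b = 1)
    (h : (a : ZMod l) = b) : a = b := by
  have : Fact (1 < l) := ⟨hl⟩
  rcases ha with rfl | rfl <;> rcases hb with rfl | rfl <;> simp_all

section
variable [DecidableEq Q] [IsCyclic Q] (hm : Odd (Fintype.card Q)) (x : Q → ℤ) {d c : ℤ}
  (h01 : ∀ s, s ≠ 1 → x s = 0 ∨ x s = 1)
  (hx : el x ^ 3 = d ^ 2 • el x + c • el (fun _ => 1))

omit [IsCyclic Q] in
include hm h01 hx in
/-- The multiplier property for a prime not dividing the order. -/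
theorem prime_multiplier (l : ℕ) (hl : l.Prime) (hlm : l.Coprime (Fintype.card Q))
    (hnc : ∃ s t : Q, s ≠ 1 ∧ t ≠ 1 ∧ x s ≠ x t) (u : Q) (hu : u ≠ 1) : x (u ^ l) = x u := by
  have := Fact.mk hl
  obtain ⟨κ, hκ⟩ := sum_root_congr hm x hx l
  rw [← Nat.card_eq_fintype_card] at hlm
  have hbij : Function.Bijective (fun s : Q => s ^ l) := (powCoprime hlm.symm).bijective
  have hroot : ∀ w, Finset.univ.filter (fun t : Q => t ^ l = w ^ l) = {w} := by
    intro w
    ext t
    simp only [Finset.mem_filter, Finset.mem_univ, true_and, Finset.mem_singleton]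
    exact ⟨fun e => hbij.1 e, fun e => e ▸ rfl⟩
  have hne : ∀ w : Q, w ≠ 1 → w ^ l ≠ 1 := fun w hw e => hw (hbij.1 (e.trans (one_pow l).symm))
  by_cases hd : (d : ZMod l) = 0
  · exfalso
    obtain ⟨s, t, hs, ht, hst⟩ := hnc
    have key : ∀ w, (x w : ZMod l) = κ := fun w => by
      have := hκ (w ^ l)
      rw [hroot, Finset.sum_singleton, hd, zero_pow (Nat.sub_ne_zero_of_lt hl.one_lt), zero_mul,
        zero_add] at this
      exact this
    exact hst (eq_of_cast_eq hl.one_lt (h01 s hs) (h01 t ht) ((key s).trans (key t).symm))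
  have key : ∀ w, (x w : ZMod l) = x (w ^ l) + κ := fun w => by
    have := hκ (w ^ l)
    rwa [hroot, Finset.sum_singleton, ZMod.pow_card_sub_one_eq_one hd, one_mul] at this
  have hκ0 : κ = 0 := by
    have := key 1
    rwa [one_pow, left_eq_add] at this
  exact (eq_of_cast_eq hl.one_lt (h01 u hu) (h01 _ (hne u hu)) (by rw [key u, hκ0, add_zero])).symm

omit [IsCyclic Q] in
include hm h01 hx in
theorem multiplier (hnc : ∃ s t : Q, s ≠ 1 ∧ t ≠ 1 ∧ x s ≠ x t) :
    ∀ n : ℕ, n.Coprime (Fintype.card Q) → ∀ u : Q, u ≠ 1 → x (u ^ n) = x u := by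
  intro n
  induction n using induction_on_primes with
  | zero =>
    intro hn u hu
    rw [Nat.coprime_zero_left] at hn
    exact absurd (Fintype.card_le_one_iff.1 hn.le u 1) hu
  | one => intro _ u _; rw [pow_one]
  | prime_mul l n hl ih =>
    intro hln u hu
    have h1 : l.Coprime (Fintype.card Q) := Nat.Coprime.coprime_mul_right hln
    have h2 : n.Coprime (Fintype.card Q) := Nat.Coprime.coprime_mul_left hln
    rw [mul_comm, pow_mul]
    have hun : u ^ n ≠ 1 := fun e => by
      rw [← Nat.card_eq_fintype_card] at h2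
      exact hu ((powCoprime h2.symm).injective (e.trans (one_pow n).symm))
    rw [prime_multiplier hm x h01 hx l hl h1 hnc _ hun, ih h2 u hu]

include hm h01 hx in
/-- Either constant off the identity or periodic modulo a subgroup of prime order. -/
theorem periodic_or_constant :
    (∀ s t : Q, s ≠ 1 → t ≠ 1 → x s = x t) ∨ ∃ q : ℕ, ∃ k : Q, q.Prime ∧ 3 ≤ q ∧ orderOf k = q ∧
      (∀ s, s ^ q ≠ 1 → x (s * k) = x s) ∧ (∀ i : ℕ, ¬ q ∣ i → x (k ^ i) = x k) ∧
      (q : ℤ) ∣ x 1 + ((q : ℤ) - 1) * x k := by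
  by_contra hcon
  push Not at hcon
  obtain ⟨⟨s₀, t₀, hs₀, ht₀, hst⟩, hper⟩ := hcon
  have hnc : ∃ s t : Q, s ≠ 1 ∧ t ≠ 1 ∧ x s ≠ x t := ⟨s₀, t₀, hs₀, ht₀, hst⟩
  have hcardpos : 0 < Fintype.card Q := Fintype.card_pos
  -- no prime divisor of the order divides `d`
  have hdiv : ∀ q : ℕ, q.Prime → q ∣ Fintype.card Q → (d : ZMod q) ≠ 0 := by
    intro q hq hqm hd
    have := Fact.mk hq
    obtain ⟨κ, hκ⟩ := sum_root_congr hm x hx q
    have hempty : ∀ s : Q, (∀ w, w ^ q ≠ s) →
        ∑ t ∈ Finset.univ.filter (fun t : Q => t ^ q = s), (x t : ZMod q) = 0 := fun s hs => by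
      rw [Finset.filter_false_of_mem fun t _ => hs t, Finset.sum_empty]
    have hq3 : 3 ≤ q := by
      rcases hq.eq_two_or_odd with rfl | h
      · exact absurd hm (Nat.not_odd_iff_even.2 (even_iff_two_dvd.2 hqm))
      · have := hq.two_le
        omega
    obtain ⟨k, hk⟩ := exists_prime_orderOf_dvd_card q hqm
    have hk1 : k ≠ 1 := fun e => by
      rw [e, orderOf_one] at hk
      exact hq.one_lt.ne hk
    have hkq : k ^ q = 1 := hk ▸ pow_orderOf_eq_one k
    -- the roots of unity of order `q`
    have hker : ∀ w : Q, w ^ q = 1 → ∃ i, i < q ∧ w = k ^ i := by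
      intro w hw
      have hle := IsCyclic.card_pow_eq_one_le (α := Q) hq.pos
      have hsub : (Finset.range q).image (fun i => k ^ i) ⊆
          Finset.univ.filter fun a : Q => a ^ q = 1 := by
        intro a ha
        obtain ⟨i, -, rfl⟩ := Finset.mem_image.1 ha
        refine Finset.mem_filter.2 ⟨Finset.mem_univ _, ?_⟩
        rw [← pow_mul, mul_comm, pow_mul, hkq, one_pow]
      have hci : ((Finset.range q).image fun i => k ^ i).card = q := by
        rw [Finset.card_image_of_injOn, Finset.card_range]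
        intro i hi j hj e
        rw [Finset.coe_range, Set.mem_Iio] at hi hj
        exact pow_injOn_Iio_orderOf (by rw [Set.mem_Iio, hk]; exact hi) (by rw [Set.mem_Iio, hk]; exact hj) e
      have := Finset.eq_of_subset_of_card_le hsub (by rw [hci]; exact hle)
      obtain ⟨i, hi, e⟩ := Finset.mem_image.1
        (this.ge (Finset.mem_filter.2 ⟨Finset.mem_univ _, hw⟩))
      exact ⟨i, Finset.mem_range.1 hi, e.symm⟩
    have hκ0 : κ = 0 := by
      obtain ⟨s, hs⟩ : ∃ s : Q, ∀ w, w ^ q ≠ s := by
        by_contra hh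
        push Not at hh
        exact hk1 ((Finite.injective_iff_surjective.2 hh) (hkq.trans (one_pow q).symm))
      have := hκ s
      rw [hempty s hs, hd, zero_pow (Nat.sub_ne_zero_of_lt hq.one_lt), zero_mul, zero_add] at this
      exact this.symm
    have hroots : ∀ s : Q, Finset.univ.filter (fun t : Q => t ^ q = s ^ q) =
        (Finset.range q).image (fun i => s * k ^ i) := by
      intro s
      ext t
      simp only [Finset.mem_filter, Finset.mem_univ, true_and, Finset.mem_image, Finset.mem_range]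
      constructor
      · intro e
        obtain ⟨i, hi, hi'⟩ := hker (s⁻¹ * t) (by rw [mul_pow, inv_pow, e, inv_mul_cancel])
        exact ⟨i, hi, by rw [← hi', mul_inv_cancel_left]⟩
      · rintro ⟨i, -, rfl⟩
        rw [mul_pow, ← pow_mul, mul_comm i, pow_mul, hkq, one_pow, mul_one]
    have hsum : ∀ s : Q, ((∑ i ∈ Finset.range q, x (s * k ^ i) : ℤ) : ZMod q) = 0 := by
      intro s
      have := hκ (s ^ q)
      rw [hroots, Finset.sum_image, hd, zero_pow (Nat.sub_ne_zero_of_lt hq.one_lt), zero_mul,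
        hκ0, add_zero] at this
      · push_cast
        exact this
      · intro i hi j hj e
        rw [Finset.coe_range, Set.mem_Iio] at hi hj
        exact pow_injOn_Iio_orderOf (by rw [Set.mem_Iio, hk]; exact hi)
          (by rw [Set.mem_Iio, hk]; exact hj) (mul_left_cancel e)
    have hperiod : ∀ s : Q, s ^ q ≠ 1 → x (s * k) = x s := by
      intro s hs
      have hval : ∀ i : ℕ, x (s * k ^ i) = 0 ∨ x (s * k ^ i) = 1 := fun i =>
        h01 _ fun e => hs (by
          have := congrArg (· ^ q) e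
          rwa [mul_pow, ← pow_mul, mul_comm i, pow_mul, hkq, one_pow, mul_one, one_pow] at this)
      obtain ⟨r, hr⟩ := (ZMod.intCast_zmod_eq_zero_iff_dvd _ _).1 (hsum s)
      have h0 : 0 ≤ ∑ i ∈ Finset.range q, x (s * k ^ i) :=
        Finset.sum_nonneg fun i _ => by rcases hval i with h | h <;> simp [h]
      have h1 : ∑ i ∈ Finset.range q, x (s * k ^ i) ≤ q := by
        calc ∑ i ∈ Finset.range q, x (s * k ^ i) ≤ ∑ i ∈ Finset.range q, 1 :=
              Finset.sum_le_sum fun i _ => by rcases hval i with h | h <;> simp [h]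
          _ = q := by simp
      have hr01 : r = 0 ∨ r = 1 := by
        have : (0 : ℤ) ≤ r ∧ r ≤ 1 := by
          rw [hr] at h0 h1
          have hq' : (0 : ℤ) < q := by exact_mod_cast hq.pos
          exact ⟨nonneg_of_mul_nonneg_right h0 hq', by nlinarith⟩
        omega
      have hall : ∀ i, i < q → x (s * k ^ i) = r := by
        intro i hi
        rcases hr01 with rfl | rfl
        · rw [mul_zero, Finset.sum_eq_zero_iff_of_nonneg
            fun i _ => by rcases hval i with h | h <;> simp [h]] at hr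
          exact hr i (Finset.mem_range.2 hi)
        · refine (hval i).resolve_left fun h => ?_
          have := Finset.sum_le_sum (s := (Finset.range q).erase i)
            fun j _ => show x (s * k ^ j) ≤ 1 by rcases hval j with h | h <;> simp [h]
          rw [Finset.sum_erase (f := fun j => x (s * k ^ j)) _ h, hr] at this
          simp [Finset.card_erase_of_mem (Finset.mem_range.2 hi)] at this
          omega
      have e0 := hall 0 hq.pos
      have e1 := hall 1 hq.one_lt
      rw [pow_zero, mul_one] at e0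
      rw [pow_one] at e1
      rw [e0, e1]
    have hK : ∀ i : ℕ, ¬ q ∣ i → x (k ^ i) = x k := by
      intro i hi
      obtain ⟨v, hv⟩ := ZMod.unitsMap_surjective hqm
        (ZMod.unitOfCoprime i ((hq.coprime_iff_not_dvd.2 hi).symm))
      have : NeZero (Fintype.card Q) := ⟨hcardpos.ne'⟩
      have hvi : ((v : ZMod (Fintype.card Q)).val : ZMod q) = (i : ZMod q) := by
        have := congrArg Units.val hv
        rw [ZMod.unitsMap_val, ZMod.coe_unitOfCoprime, ZMod.cast_eq_val] at this
        exact this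
      have h1 := multiplier hm x h01 hx hnc _ (ZMod.val_coe_unit_coprime v) k hk1
      rw [← h1]
      congr 1
      rw [pow_eq_pow_iff_modEq, hk, ← ZMod.natCast_eq_natCast_iff, hvi]
    refine hper q k hq hq3 hk hperiod hK ?_
    rw [← ZMod.intCast_zmod_eq_zero_iff_dvd]
    have := hsum 1
    rw [Finset.range_eq_Ico, Finset.sum_eq_sum_Ico_succ_bot hq.pos] at this
    simp only [one_mul, pow_zero] at this
    rw [Finset.sum_congr rfl fun i hi => hK i fun hdvd => by
      obtain ⟨h1, h2⟩ := Finset.mem_Ico.1 hi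
      exact absurd (Nat.le_of_dvd (by omega) hdvd) (by omega), Finset.sum_const,
      Nat.card_Ico, nsmul_eq_mul, zero_add] at this
    rw [← this, Nat.cast_sub hq.one_lt.le, Nat.cast_one]
  -- every value is the value at a generator
  obtain ⟨g, hg⟩ := IsCyclic.exists_ofOrder_eq_natCard (α := Q)
  rw [Nat.card_eq_fintype_card] at hg
  refine hst ?_
  suffices ∀ s : Q, s ≠ 1 → x s = x g from (this s₀ hs₀).trans (this t₀ ht₀).symm
  intro s hs
  induction hn : Fintype.card Q - orderOf s using Nat.strong_induction_on generalizing s with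
  | _ n ih =>
    subst hn
    obtain ⟨q, hq, hqs⟩ := Nat.exists_prime_and_dvd (show orderOf s ≠ 1 from fun e =>
      hs (orderOf_eq_one_iff.1 e))
    have := Fact.mk hq
    have hqm : q ∣ Fintype.card Q := hqs.trans orderOf_dvd_card
    obtain ⟨κ, hκ⟩ := sum_root_congr hm x hx q
    have hg1 : g ≠ 1 := fun e => by
      rw [e, orderOf_one] at hg
      exact hs (Fintype.card_le_one_iff.1 hg.ge s 1)
    have hgq : ∀ w, w ^ q ≠ g := by
      intro w e
      have h2 : g ^ (Fintype.card Q / q) = 1 := by
        rw [← e, ← pow_mul, Nat.mul_div_cancel' hqm, pow_card_eq_one]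
      have h3 := orderOf_dvd_of_pow_eq_one h2
      rw [hg] at h3
      have h4 := Nat.le_of_dvd (Nat.div_pos (Nat.le_of_dvd hcardpos hqm) hq.pos) h3
      exact absurd (Nat.div_lt_self hcardpos hq.one_lt) (not_lt.2 h4)
    have h1 := hκ g
    rw [Finset.filter_false_of_mem fun t _ => hgq t, Finset.sum_empty,
      ZMod.pow_card_sub_one_eq_one (hdiv q hq hqm), one_mul] at h1
    have h2 := hκ s
    rw [ZMod.pow_card_sub_one_eq_one (hdiv q hq hqm), one_mul,
      eq_neg_of_add_eq_zero_right h1.symm, ← sub_eq_add_neg] at h2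
    refine eq_of_cast_eq hq.one_lt (h01 s hs) (h01 g hg1) (sub_eq_zero.1 (h2.symm.trans ?_))
    have hrt : ∀ t ∈ Finset.univ.filter (fun t : Q => t ^ q = s), (x t : ZMod q) = x g := by
      intro t ht
      rw [Finset.mem_filter] at ht
      have ht2 : q ∣ orderOf t := hqs.trans (ht.2 ▸ orderOf_pow_dvd q)
      have ht3 : orderOf s = orderOf t / q := by
        rw [← ht.2, orderOf_pow' t hq.ne_zero, Nat.gcd_eq_right ht2]
      have ht4 : orderOf s < orderOf t := ht3 ▸ Nat.div_lt_self (orderOf_pos t) hq.one_lt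
      have ht5 : orderOf t ≤ Fintype.card Q := orderOf_le_card_univ
      rw [ih _ (by omega) t (fun e => by
        rw [e, orderOf_one] at ht4
        have := orderOf_pos s
        omega) rfl]
    rw [Finset.sum_congr rfl hrt, Finset.sum_const, nsmul_eq_mul]
    -- the number of roots is divisible by `q`
    rcases (Finset.univ.filter fun t : Q => t ^ q = s).eq_empty_or_nonempty with h0 | ⟨w, hw⟩
    · rw [h0, Finset.card_empty, Nat.cast_zero, zero_mul]
    rw [Finset.mem_filter] at hw
    have hc : (Finset.univ.filter fun t : Q => t ^ q = s).card =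
        (Finset.univ.filter fun t : Q => t ^ q = 1).card := by
      refine Finset.card_equiv (Equiv.mulLeft w⁻¹) fun t => ?_
      simp [mul_pow, inv_pow, hw.2, inv_mul_eq_one, eq_comm]
    have hc2 : (Finset.univ.filter fun t : Q => t ^ q = 1).card = q := by
      obtain ⟨k, hk⟩ := exists_prime_orderOf_dvd_card q hqm
      refine le_antisymm (IsCyclic.card_pow_eq_one_le hq.pos) ?_
      rw [← hk, ← Fintype.card_fin (orderOf k)]
      refine Finset.card_le_card_of_injOn (fun i : Fin (orderOf k) => k ^ (i : ℕ)) ?_ ?_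
      · intro i _
        simp only [Finset.coe_filter, Finset.mem_univ, true_and, Set.mem_setOf_eq]
        rw [← pow_mul, mul_comm, pow_mul, Fintype.card_fin, pow_orderOf_eq_one, one_pow]
      · exact fun i _ j _ e => Fin.ext (pow_injOn_Iio_orderOf i.2 j.2 e)
    rw [hc, hc2, ZMod.natCast_self, zero_mul]

end

end Cfsg.Agent.Grp.HalfNormalizer
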