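import Cfsg.Agent.Lib.Grp.HalfNormalizer.Circulant

/-!
A strongly regular Cayley graph on a dihedral group of order twice an odd number is imprimitive.
-/

set_option autoImplicit false

namespace Cfsg.Agent.Grp.HalfNormalizer

universe u

theorem mem_zpowers_of_pow_eq_one {Q : Type*} [CommGroup Q] [Finite Q] [IsCyclic Q] {k s : Q}
    {q : ℕ} (hq : 0 < q) (hk : orderOf k = q) (hs : s ^ q = 1) : s ∈ Subgroup.zpowers k := by
  classical
  have := Fintype.ofFinite Q
  have hsub : (Finset.univ.filter fun a => a ∈ Subgroup.zpowers k) ⊆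
      Finset.univ.filter fun a : Q => a ^ q = 1 := by
    intro a ha
    simp only [Finset.mem_filter, Finset.mem_univ, true_and] at ha ⊢
    obtain ⟨i, rfl⟩ := Subgroup.mem_zpowers_iff.1 ha
    rw [← zpow_natCast (k ^ i), ← zpow_mul, mul_comm, zpow_mul, zpow_natCast, ← hk,
      pow_orderOf_eq_one, one_zpow]
  have hcard : (Finset.univ.filter fun a => a ∈ Subgroup.zpowers k).card = q := by
    rw [← hk, ← Nat.card_zpowers, Nat.card_eq_fintype_card, Fintype.card_subtype]
  have := Finset.eq_of_subset_of_card_le hsub (by rw [hcard]; exact IsCyclic.card_pow_eq_one_le hq)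
  have h1 := this.ge (Finset.mem_filter.2 ⟨Finset.mem_univ _, hs⟩)
  exact (Finset.mem_filter.1 h1).2

/-- A zero-one element satisfying the cubic relation is a subgroup or the complement of one. -/
theorem subgroup_or_compl : ∀ (n : ℕ) (Q : Type u) [CommGroup Q] [Fintype Q] [DecidableEq Q]
    [IsCyclic Q], Fintype.card Q = n → Odd n → ∀ (x : Q → ℤ), (∀ s, x s = 0 ∨ x s = 1) →
    (∃ s t, x s ≠ x t) → ∀ d c : ℤ, el x ^ 3 = d ^ 2 • el x + c • el (fun _ => 1) →
    ∃ L : Subgroup Q, (∀ s, (x s = 1 ↔ s ∈ L)) ∨ ∀ s, (x s = 1 ↔ s ∉ L) := by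
  intro n
  induction n using Nat.strong_induction_on with
  | _ n ih =>
  intro Q _ _ _ _ hn hodd x h01 hnc d c hx
  subst hn
  rcases periodic_or_constant hodd x (fun s _ => h01 s) hx with hconst | ⟨q, k, hq, hq3, hk, hper, hK, hdiv⟩
  · refine ⟨⊥, ?_⟩
    rcases h01 1 with h1 | h1
    · right
      intro s
      rw [Subgroup.mem_bot]
      refine ⟨fun hs e => ?_, fun hs => ?_⟩
      · rw [e, h1] at hs
        exact zero_ne_one hs
      · refine (h01 s).resolve_left fun h0 => ?_
        obtain ⟨a, b, hab⟩ := hnc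
        have key : ∀ t, x t = 0 := fun t => by
          by_cases ht : t = 1
          · rw [ht, h1]
          · rw [hconst t s ht hs, h0]
        exact hab ((key a).trans (key b).symm)
    · left
      intro s
      rw [Subgroup.mem_bot]
      refine ⟨fun hs => by_contra fun e => ?_, fun e => e ▸ h1⟩
      obtain ⟨a, b, hab⟩ := hnc
      have key : ∀ t, x t = 1 := fun t => by
        by_cases ht : t = 1
        · rw [ht, h1]
        · rw [hconst t s ht e, hs]
      exact hab ((key a).trans (key b).symm)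
  have hxk : x 1 = x k := by
    have h3 : (3 : ℤ) ≤ q := by exact_mod_cast hq3
    have : (q : ℤ) ∣ x 1 - x k := by
      have h := dvd_sub hdiv (dvd_mul_right (q : ℤ) (x k))
      rwa [show x 1 + ((q : ℤ) - 1) * x k - q * x k = x 1 - x k by ring] at h
    rcases h01 1 with h1 | h1 <;> rcases h01 k with h2 | h2 <;> rw [h1, h2] at this ⊢ <;>
      first
      | rfl
      | (exfalso; have := Int.natAbs_dvd_natAbs.2 this; simp at this; omega)
  have hkpow : ∀ i : ℕ, x (k ^ i) = x 1 := by
    intro i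
    by_cases hi : q ∣ i
    · obtain ⟨r, rfl⟩ := hi
      rw [pow_mul, ← hk, pow_orderOf_eq_one, one_pow]
    · rw [hK i hi, hxk]
  have hinv : ∀ s, x (s * k) = x s := by
    intro s
    by_cases hs : s ^ q = 1
    · obtain ⟨i, rfl⟩ := mem_powers_iff_mem_zpowers.2 (mem_zpowers_of_pow_eq_one hq.pos hk hs)
      show x (k ^ i * k) = x (k ^ i)
      rw [← pow_succ, hkpow, hkpow]
    · exact hper s hs
  let K := Subgroup.zpowers k
  let π : Q →* Q ⧸ K := QuotientGroup.mk' K
  have hconstK : ∀ s t : Q, π s = π t → x s = x t := by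
    intro s t h
    obtain ⟨i, hi⟩ := mem_powers_iff_mem_zpowers.2 (QuotientGroup.eq.1 h)
    have : t = s * k ^ i := by rw [show k ^ i = s⁻¹ * t from hi, mul_inv_cancel_left]
    subst this
    clear hi h
    induction i with
    | zero => simp
    | succ i ih => rw [pow_succ, ← mul_assoc, hinv, ← ih]
  let xb : Q ⧸ K → ℤ := fun z => x z.out
  have hxb : ∀ s, xb (π s) = x s := fun s => hconstK _ _ (QuotientGroup.out_eq' _)
  have hfib : ∀ z : Q ⧸ K, (Finset.univ.filter fun s => π s = z).card = q := by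
    intro z
    obtain ⟨s, rfl⟩ := QuotientGroup.mk'_surjective K z
    rw [← hk, ← Nat.card_zpowers, Nat.card_eq_fintype_card, ← Finset.card_univ]
    refine Finset.card_bij' (fun t ht => ⟨s⁻¹ * t, QuotientGroup.eq.1 ((Finset.mem_filter.1 ht).2).symm⟩)
      (fun t _ => s * (t : Q)) (fun t _ => Finset.mem_univ _) (fun t _ => ?_)
      (fun t _ => mul_inv_cancel_left s t) (fun t _ => Subtype.ext (inv_mul_cancel_left s (t : Q)))
    refine Finset.mem_filter.2 ⟨Finset.mem_univ _, ?_⟩
    rw [map_mul, show π (t : Q) = 1 from (QuotientGroup.eq_one_iff _).2 t.2, mul_one]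
  have hmap : ∀ (f : Q → ℤ) (g : Q ⧸ K → ℤ), (∀ s, g (π s) = f s) →
      MonoidAlgebra.mapDomainRingHom ℤ π (el f) = (q : ℤ) • el g := by
    intro f g hfg
    simp only [el, map_sum]
    rw [← Finset.sum_fiberwise Finset.univ π, Finset.smul_sum]
    refine Finset.sum_congr rfl fun z _ => ?_
    rw [Finset.sum_congr rfl (g := fun _ => MonoidAlgebra.single z (g z)) fun s hs => ?_,
      Finset.sum_const, hfib, natCast_zsmul]
    rw [Finset.mem_filter] at hs
    rw [← hs.2, hfg]
    exact MonoidAlgebra.mapDomain_single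
  have hx' := congrArg (MonoidAlgebra.mapDomainRingHom ℤ π) hx
  rw [map_pow, map_add, map_zsmul, map_zsmul, hmap x xb hxb, hmap (fun _ => 1) (fun _ => 1)
    (fun _ => rfl)] at hx'
  have hq0 : (q : ℤ) ≠ 0 := by exact_mod_cast hq.ne_zero
  have hcoef : ∀ z, (q : ℤ) ^ 2 * (el xb ^ 3).coeff z = d ^ 2 * xb z + c := by
    intro z
    have := congrArg (fun u : MonoidAlgebra ℤ (Q ⧸ K) => u.coeff z) hx'
    simp only [smul_pow, MonoidAlgebra.coeff_add, Finsupp.add_apply, MonoidAlgebra.coeff_smul,
      Finsupp.smul_apply, el_coeff, smul_eq_mul] at this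
    apply mul_left_cancel₀ hq0
    linear_combination this
  obtain ⟨a, b, hab⟩ := hnc
  obtain ⟨z0, z1, hz0, hz1⟩ : ∃ z0 z1, xb z0 = 0 ∧ xb z1 = 1 := by
    rcases h01 a with ha | ha <;> rcases h01 b with hb | hb
    · exact absurd (ha.trans hb.symm) hab
    · exact ⟨π a, π b, by rw [hxb, ha], by rw [hxb, hb]⟩
    · exact ⟨π b, π a, by rw [hxb, hb], by rw [hxb, ha]⟩
    · exact absurd (ha.trans hb.symm) hab
  have hqd : (q : ℤ) ∣ d := by
    refine (Nat.prime_iff_prime_int.1 hq).dvd_of_dvd_pow (n := 2) ?_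
    refine ⟨q * ((el xb ^ 3).coeff z1 - (el xb ^ 3).coeff z0), ?_⟩
    have e1 := hcoef z1
    have e0 := hcoef z0
    rw [hz1] at e1
    rw [hz0] at e0
    linear_combination e0 - e1
  obtain ⟨d', rfl⟩ := hqd
  set c' := (el xb ^ 3).coeff z0 with hc'
  have hc : c = (q : ℤ) ^ 2 * c' := by
    have e0 := hcoef z0
    rw [hz0] at e0
    linear_combination -e0
  have hxb3 : el xb ^ 3 = d' ^ 2 • el xb + c' • el (fun _ => 1) := by
    ext z
    rw [MonoidAlgebra.coeff_add, Finsupp.add_apply, MonoidAlgebra.coeff_smul,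
      MonoidAlgebra.coeff_smul, Finsupp.smul_apply, Finsupp.smul_apply, el_coeff, el_coeff,
      smul_eq_mul, smul_eq_mul, mul_one]
    apply mul_left_cancel₀ (pow_ne_zero 2 hq0)
    rw [hcoef z, hc]
    ring
  have hcard : Fintype.card (Q ⧸ K) * q = Fintype.card Q := by
    rw [← Nat.card_eq_fintype_card, ← Nat.card_eq_fintype_card, ← hk, ← Nat.card_zpowers,
      ← Subgroup.card_eq_card_quotient_mul_card_subgroup]
  have : IsCyclic (Q ⧸ K) := isCyclic_of_surjective π (QuotientGroup.mk'_surjective K)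
  obtain ⟨L, hL⟩ := ih (Fintype.card (Q ⧸ K)) (by
      rw [← hcard]
      exact lt_mul_of_one_lt_right Fintype.card_pos hq.one_lt)
    (Q ⧸ K) rfl (Nat.Odd.of_mul_left (hcard ▸ hodd)) xb (fun z => h01 _)
    ⟨z0, z1, by rw [hz0, hz1]; decide⟩ d' c' hxb3
  refine ⟨L.comap π, hL.imp (fun h s => ?_) (fun h s => ?_)⟩ <;>
    rw [← hxb s] <;> exact h (π s)

section
variable {Q : Type u} [CommGroup Q] [Fintype Q] [DecidableEq Q] [IsCyclic Q]

/-- A strongly regular graph on a dihedral group, given by its rotation part `A₀` and its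
reflection part `A₁`, is imprimitive. -/
theorem srg_dihedral (hm : Odd (Fintype.card Q)) (A₀ A₁ : Q → ℤ) (h0 : ∀ s, A₀ s = 0 ∨ A₀ s = 1)
    (h1 : ∀ s, A₁ s = 0 ∨ A₁ s = 1) (hone : A₀ 1 = 0) (hsymm : ∀ s, A₀ s⁻¹ = A₀ s)
    (a lam mu : ℤ) (ha : a = ∑ t, A₀ t + ∑ t, A₁ t)
    (hrot : ∀ s, s ≠ 1 → ∑ t, A₀ t * A₀ (t⁻¹ * s) + ∑ t, A₁ t * A₁ (s⁻¹ * t) =
      lam * A₀ s + mu * (1 - A₀ s))
    (href : ∀ s, 2 * ∑ t, A₀ t * A₁ (t⁻¹ * s) = lam * A₁ s + mu * (1 - A₁ s)) :
    mu = 0 ∨ mu = a ∨ lam = a - 1 := by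
  classical
  set a₀ := ∑ t, A₀ t with ha₀
  set a₁ := ∑ t, A₁ t with ha₁
  set m : ℤ := (Fintype.card Q : ℤ) with hm'
  have sq0 : ∀ s, A₀ s * A₀ s = A₀ s := fun s => by rcases h0 s with h | h <;> rw [h] <;> rfl
  have sq1 : ∀ s, A₁ s * A₁ s = A₁ s := fun s => by rcases h1 s with h | h <;> rw [h] <;> rfl
  have hc00 : ∑ t, A₀ t * A₀ (t⁻¹ * 1) = a₀ :=
    Finset.sum_congr rfl fun t _ => by rw [mul_one, hsymm, sq0]
  have hy1 : ∑ t, A₁ t * A₁ ((1 : Q)⁻¹ * t) = a₁ :=
    Finset.sum_congr rfl fun t _ => by rw [inv_one, one_mul, sq1]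
  by_cases hA1 : ∀ s, A₁ s = 0
  · left
    have := href 1
    simp only [hA1, mul_zero, Finset.sum_const_zero, sub_zero, zero_add, mul_one] at this
    exact this.symm
  by_cases hA1' : ∀ s, A₁ s = 1
  · have hl : lam = 2 * a₀ := by
      have := href 1
      simp only [hA1', mul_one, sub_self, mul_zero, add_zero] at this
      exact this.symm
    have ha1 : a₁ = m := by simp [ha₁, hA1', hm']
    have hsum : (a₀ * a₀ - a₀) + (m - 1) * m = lam * a₀ + mu * (m - 1 - a₀) := by
      have e := Finset.sum_congr rfl (fun s (hs : s ∈ Finset.univ.erase (1 : Q)) =>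
        hrot s (Finset.ne_of_mem_erase hs))
      simp only [Finset.sum_add_distrib, ← Finset.mul_sum, Finset.sum_sub_distrib,
        Finset.sum_const, nsmul_eq_mul, mul_one] at e
      rw [Finset.sum_erase_eq_sub (Finset.mem_univ _), sum_mul_el A₀ A₀, hc00,
        Finset.sum_erase_eq_sub (f := A₀) (Finset.mem_univ _), hone, sub_zero, ← ha₀,
        Finset.card_erase_of_mem (Finset.mem_univ _), Finset.card_univ,
        Nat.cast_sub Fintype.card_pos, Nat.cast_one, ← hm'] at e
      simp only [hA1', mul_one, Finset.sum_const, Finset.card_univ, nsmul_eq_mul,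
        Finset.card_erase_of_mem (Finset.mem_univ (1 : Q)),
        Nat.cast_sub (Fintype.card_pos : 1 ≤ Fintype.card Q), Nat.cast_one, ← hm'] at e
      linear_combination e
    have : (m - 1 - a₀) * (mu - (m + a₀)) = 0 := by
      subst hl
      linear_combination -hsum
    rcases mul_eq_zero.1 this with e | e
    · right; right
      rw [ha, ha1, hl]
      linear_combination -e
    · right; left
      rw [ha, ha1]
      linear_combination e
  push Not at hA1 hA1'
  obtain ⟨s1, hs1⟩ := hA1
  obtain ⟨s0, hs0⟩ := hA1'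
  replace hs1 : A₁ s1 = 1 := (h1 s1).resolve_left hs1
  replace hs0 : A₁ s0 = 0 := (h1 s0).resolve_right hs0
  obtain ⟨l', rfl⟩ : ∃ l', lam = 2 * l' := ⟨∑ t, A₀ t * A₁ (t⁻¹ * s1), by
    rw [href s1, hs1, mul_one, sub_self, mul_zero, add_zero]⟩
  obtain ⟨f, rfl⟩ : ∃ f, mu = 2 * f := ⟨∑ t, A₀ t * A₁ (t⁻¹ * s0), by
    rw [href s0, hs0, mul_zero, sub_zero, zero_add, mul_one]⟩
  set e := l' - f with he
  let x : Q → ℤ := fun s => A₀ s - if s = 1 then e else 0
  have hx1 : x 1 = -e := by simp [x, hone]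
  have hx' : ∀ {s : Q}, s ≠ 1 → x s = A₀ s := fun hs => by simp [x, hs]
  set x₀ := ∑ t, x t with hx₀
  have hx₀' : x₀ = a₀ - e := by simp [hx₀, x, ha₀]
  have hconv : ∀ (g : Q → ℤ) s, ∑ t, x t * g (t⁻¹ * s) = ∑ t, A₀ t * g (t⁻¹ * s) - e * g s := by
    intro g s
    simp [x, sub_mul, Finset.sum_sub_distrib]
  have hxA : el x * el A₁ = f • el (fun _ => (1 : ℤ)) := by
    rw [el_mul, el_smul]
    congr 1
    funext s
    have := href s
    rw [hconv, Pi.smul_apply, smul_eq_mul, mul_one]
    have h2 : 2 * (∑ t, A₀ t * A₁ (t⁻¹ * s) - e * A₁ s) = 2 * f := by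
      rw [he]
      linear_combination this
    linarith
  have hsumA : x₀ * a₁ = f * m := by
    rw [hx₀, ha₁, ← sum_mul_el]
    rw [el_mul, el_smul] at hxA
    rw [el_ext hxA]
    simp [hm', mul_comm]
  set κ := a + e ^ 2 - 2 * f with hκ
  let y : Q → ℤ := fun s => ∑ t, A₁ t * A₁ (s⁻¹ * t)
  have hy : el A₁ * el (fun s => A₁ s⁻¹) = el y := by
    rw [el_mul]
    congr 1
    funext s
    exact Finset.sum_congr rfl fun t _ => by rw [mul_inv_rev, inv_inv]
  have hsq : ∀ s, ∑ t, x t * x (t⁻¹ * s) + y s = (if s = 1 then κ else 0) + 2 * f := by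
    intro s
    have h2 : ∑ t, A₀ t * x (t⁻¹ * s) = ∑ t, A₀ t * A₀ (t⁻¹ * s) - e * A₀ s := by
      simp [x, mul_sub, Finset.sum_sub_distrib, inv_mul_eq_one, mul_ite, Finset.sum_ite_eq',
        mul_comm (A₀ s)]
    rw [hconv, h2]
    by_cases hs : s = 1
    · subst hs
      show _ + ∑ t, A₁ t * A₁ ((1 : Q)⁻¹ * t) = _
      rw [hc00, hy1, hone, if_pos rfl, hx1, hκ, ha]
      ring
    · have := hrot s hs
      show _ + ∑ t, A₁ t * A₁ (s⁻¹ * t) = _
      rw [if_neg hs, hx' hs, he]
      linear_combination this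
  have hsum2 : x₀ * x₀ + a₁ * a₁ = κ + 2 * f * m := by
    have e' := Finset.sum_congr rfl (fun s (_ : s ∈ (Finset.univ : Finset Q)) => hsq s)
    rw [Finset.sum_add_distrib, Finset.sum_add_distrib, sum_mul_el, ← hx₀, Finset.sum_ite_eq',
      if_pos (Finset.mem_univ _), Finset.sum_const, Finset.card_univ, nsmul_eq_mul, ← hm'] at e'
    have hy' : ∑ s, y s = a₁ * a₁ := by
      rw [ha₁]
      nth_rw 2 [← Equiv.sum_comp (Equiv.inv Q) A₁]
      rw [← sum_mul_el]
      exact Finset.sum_congr rfl fun s _ => Finset.sum_congr rfl fun t _ => by simp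
    rw [hy'] at e'
    linear_combination e'
  set d := x₀ - a₁ with hd
  have hκd : κ = d ^ 2 := by rw [hd]; linear_combination -hsum2 + 2 * hsumA
  have hx3 : el x ^ 3 = d ^ 2 • el x + (2 * f * x₀ - f * a₁) • el (fun _ => (1 : ℤ)) := by
    have e2 : el x * el x + el y = κ • el (fun s => if s = 1 then (1 : ℤ) else 0) +
        (2 * f) • el (fun _ => (1 : ℤ)) := by
      rw [el_mul, el_add, el_smul, el_smul, el_add]
      congr 1
      funext s
      simp [hsq s]
    have e3 : el x * el (fun s => if s = 1 then (1 : ℤ) else 0) = el x := by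
      rw [el_mul]
      congr 1
      funext s
      simp [inv_mul_eq_one]
    have e4 : el x * el y = (f * a₁) • el (fun _ => (1 : ℤ)) := by
      rw [← hy, ← mul_assoc, hxA, smul_mul_assoc, mul_comm (el fun _ => (1 : ℤ)), el_mul_one,
        smul_smul, ha₁, show ∑ t, A₁ t⁻¹ = _ from Equiv.sum_comp (Equiv.inv Q) A₁]
    have e5 := congrArg (el x * ·) e2
    simp only [mul_add, mul_smul_comm, e3, e4, el_mul_one, ← hx₀, smul_smul, hκd] at e5
    rw [pow_succ, sq, mul_assoc, sub_smul, ← add_sub_assoc, eq_sub_iff_add_eq]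
    exact e5
  have ha1pos : 0 < a₁ ∧ a₁ < m := by
    constructor
    · exact Finset.sum_pos' (fun t _ => by rcases h1 t with h | h <;> simp [h])
        ⟨s1, Finset.mem_univ _, by rw [hs1]; norm_num⟩
    · have := Finset.sum_lt_sum (s := (Finset.univ : Finset Q)) (f := A₁) (g := fun _ => 1)
        (fun t _ => by rcases h1 t with h | h <;> simp [h]) ⟨s0, Finset.mem_univ _, by rw [hs0]; norm_num⟩
      simpa [hm', ha₁] using this
  by_cases hconst : ∀ s t : Q, s ≠ 1 → t ≠ 1 → x s = x t
  · obtain ⟨s₂, hs₂⟩ : ∃ s₂ : Q, s₂ ≠ 1 := by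
      by_contra hh
      push Not at hh
      rw [hh s1, ← hh s0, hs0] at hs1
      exact zero_ne_one hs1
    set t := A₀ s₂ with ht
    have hA0 : ∀ s, s ≠ 1 → A₀ s = t := fun s hs => by rw [← hx' hs, hconst s s₂ hs hs₂, hx' hs₂]
    have hA0conv : ∀ s, ∑ u, A₀ u * A₁ (u⁻¹ * s) = t * (a₁ - A₁ s) := by
      intro s
      rw [← Finset.sum_erase (f := fun u => A₀ u * A₁ (u⁻¹ * s)) (a := 1) _ (by rw [hone, zero_mul]),
        Finset.sum_congr rfl fun u hu => by rw [hA0 u (Finset.ne_of_mem_erase hu)], ← Finset.mul_sum]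
      congr 1
      rw [Finset.sum_erase_eq_sub (Finset.mem_univ _), inv_one, one_mul, ha₁]
      congr 1
      exact Fintype.sum_equiv ((Equiv.inv Q).trans (Equiv.mulRight s)) _ _ fun u => rfl
    have e0 := href s0
    have e1 := href s1
    rw [hA0conv, hs0] at e0
    rw [hA0conv, hs1] at e1
    rcases h0 s₂ with h | h <;> rw [← ht] at h
    · left
      rw [h] at e0
      linear_combination -e0
    · right; left
      have hf : f = a₁ := by
        rw [h] at e0
        linarith
      have hee : e = -1 := by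
        rw [h] at e1
        rw [he]
        linarith
      have ha0 : a₀ = m - 1 := by
        rw [ha₀, ← Finset.sum_erase (a := (1 : Q)) _ hone,
          Finset.sum_congr rfl fun u hu => hA0 u (Finset.ne_of_mem_erase hu), h]
        simp [hm', Nat.cast_sub (Fintype.card_pos : 1 ≤ Fintype.card Q)]
      have hD : (m - a₁) * (m - a₁) = m - a₁ := by
        have := hκd
        rw [hκ, hd, hx₀', ha, ha0, hee, hf] at this
        linear_combination -this
      have : m - a₁ = 1 := mul_right_cancel₀ (by linarith [ha1pos.2] : m - a₁ ≠ 0)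
        (hD.trans (one_mul _).symm)
      rw [ha, ha0, hf]
      linarith
  obtain ⟨q, k, hq, hq3, hk, hper, hK, -⟩ := (periodic_or_constant hm x
    (fun s hs => by rw [hx' hs]; exact h0 s) hx3).resolve_left hconst
  have hk1 : k ≠ 1 := fun e => by
    rw [e, orderOf_one] at hk
    omega
  have hkq : k ^ q = 1 := hk ▸ pow_orderOf_eq_one k
  have hshift : ∀ t : Q, t ≠ 1 → t ≠ k → x (t * k⁻¹) = x t := by
    intro t ht htk
    by_cases hs : t ^ q = 1
    · obtain ⟨i, rfl⟩ := mem_powers_iff_mem_zpowers.2 (mem_zpowers_of_pow_eq_one hq.pos hk hs)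
      show x (k ^ i * k⁻¹) = x (k ^ i)
      have hki : k⁻¹ = k ^ (q - 1) := inv_eq_of_mul_eq_one_left (by
        rw [← pow_succ, Nat.sub_add_cancel hq.one_lt.le, hkq])
      have hni : ∀ j, q ∣ j → k ^ j = 1 := fun j ⟨r, hr⟩ => by rw [hr, pow_mul, hkq, one_pow]
      rw [hki, ← pow_add]
      rw [hK i fun h => ht (hni i h), hK _ fun h => htk ?_]
      obtain ⟨r, hr⟩ := h
      show k ^ i = k
      have : k ^ (i + (q - 1)) = 1 := hni _ ⟨r, hr⟩
      rw [pow_add, ← hki, mul_inv_eq_one] at this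
      exact this
    · have : (t * k⁻¹) ^ q ≠ 1 := by rwa [mul_pow, inv_pow, hkq, inv_one, mul_one]
      rw [← hper _ this, inv_mul_cancel_right]
  by_cases he' : x k + e = 0
  · -- `x` itself is periodic
    exfalso
    have hx01 : ∀ s, x s = 0 ∨ x s = 1 := by
      intro s
      by_cases hs : s = 1
      · rw [hs, hx1, show -e = x k by linarith, hx' hk1]
        exact h0 k
      · rw [hx' hs]
        exact h0 s
    obtain ⟨s₃, t₃, hne⟩ : ∃ s t, x s ≠ x t := by
      push Not at hconst
      obtain ⟨s, t, -, -, h⟩ := hconst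
      exact ⟨s, t, h⟩
    obtain ⟨L, hL⟩ := subgroup_or_compl (Fintype.card Q) Q rfl hm x hx01 ⟨s₃, t₃, hne⟩ d _ hx3
    have hkL : k ∈ L := by
      have h11 : x 1 = x k := by rw [hx1]; linarith
      rcases hL with h | h
      · exact (h k).1 (h11 ▸ (h 1).2 L.one_mem)
      · exact by_contra fun hh => ((h 1).1 (h11.symm ▸ (h k).2 hh)) L.one_mem
    set ι : Q → ℤ := fun s => if s ∈ L then 1 else 0 with hι
    set l : ℤ := (Nat.card L : ℤ) with hl
    have hl3 : 3 ≤ l := by
      rw [hl]
      exact_mod_cast hq3.trans (hk ▸ Nat.le_of_dvd Nat.card_pos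
        ((Subgroup.orderOf_coe (⟨k, hkL⟩ : L)).symm ▸ orderOf_dvd_natCard _))
    have hιsum : ∑ t, ι t = l := by
      simp [hι, hl, Finset.sum_boole, Nat.card_eq_fintype_card, Fintype.card_subtype]
    have hιι : ∀ s, ∑ t, ι t * ι (t⁻¹ * s) = l * ι s := by
      intro s
      rw [← hιsum, Finset.sum_mul]
      refine Finset.sum_congr rfl fun t _ => ?_
      by_cases ht : t ∈ L
      · simp [hι, ht, Subgroup.mul_mem_cancel_left _ (inv_mem ht)]
      · simp [hι, ht]
    have h11 := hsq 1
    rw [if_pos rfl, show y 1 = a₁ from hy1, hκd] at h11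
    obtain ⟨sout, hsout⟩ : ∃ s, s ∉ L := by
      by_contra hh
      push Not at hh
      rcases hL with h | h
      · exact hne (((h _).2 (hh _)).trans ((h _).2 (hh _)).symm)
      · exact hne (((hx01 _).resolve_right fun e => (h _).1 e (hh _)).trans
          ((hx01 _).resolve_right fun e => (h _).1 e (hh _)).symm)
    rcases hL with h | h
    · have hxι : x = ι := funext fun s => by
        by_cases hs : s ∈ L
        · simp [hι, hs, (h s).2 hs]
        · simp [hι, hs, (hx01 s).resolve_right fun e => hs ((h s).1 e)]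
      have hxx : el x * el x = l • el x := by
        rw [el_mul, el_smul, hxι]
        congr 1
        exact funext hιι
      have h3 : el x ^ 3 = (l * l) • el x := by
        rw [pow_succ, sq, hxx, smul_mul_assoc, hxx, smul_smul]
      rw [h3] at hx3
      have ein := congrArg (fun u : MonoidAlgebra ℤ Q => u.coeff 1) hx3
      have eout := congrArg (fun u : MonoidAlgebra ℤ Q => u.coeff sout) hx3
      simp only [MonoidAlgebra.coeff_add, Finsupp.add_apply, MonoidAlgebra.coeff_smul,
        Finsupp.smul_apply, el_coeff, smul_eq_mul, hxι, hι, L.one_mem, hsout, if_true, if_false,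
        mul_one, mul_zero, zero_add] at ein eout
      have hx0l : x₀ = l := by rw [hx₀, hxι, hιsum]
      have hdd : a₁ * (a₁ - 2 * l) = 0 := by
        rw [hd, hx0l] at ein
        rw [hx0l] at eout
        linear_combination -ein + eout
      have ha12 : a₁ = 2 * l := by
        have := (mul_eq_zero.1 hdd).resolve_left (by linarith [ha1pos.1])
        linarith
      rw [hxι, hιι, show ι 1 = 1 from if_pos L.one_mem, mul_one, hd, hx0l, ha12] at h11
      rw [hx0l, ha12] at hsumA
      have hm0 : 0 < m := by linarith [ha1pos.1, ha1pos.2]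
      have hfp : 0 < f := by
        by_contra hh
        push Not at hh
        nlinarith
      nlinarith
    · have hxι : x = fun s => 1 - ι s := funext fun s => by
        by_cases hs : s ∈ L
        · simp [hι, hs, (hx01 s).resolve_right fun e => (h s).1 e hs]
        · simp [hι, hs, (h s).2 hs]
      have hperm : ∀ s, ∑ t, ι (t⁻¹ * s) = l := fun s => by
        rw [← hιsum]
        exact Fintype.sum_equiv ((Equiv.inv Q).trans (Equiv.mulRight s)) _ _ fun u => rfl
      have hxx : ∀ s, ∑ t, x t * x (t⁻¹ * s) = (m - 2 * l) + l * ι s := by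
        intro s
        simp only [hxι, sub_mul, mul_sub, one_mul, mul_one, Finset.sum_sub_distrib, hperm, hιι,
          hιsum, Finset.sum_const, Finset.card_univ, nsmul_eq_mul, ← hm']
        ring
      have hx0l : x₀ = m - l := by
        simp [hx₀, hxι, Finset.sum_sub_distrib, hιsum, hm']
      have h3 : ∀ s, (el x ^ 3).coeff s = (m - 2 * l) * (m - l) + l * (l - l * ι s) := by
        intro s
        rw [pow_succ', sq, el_mul, el_mul, el_coeff]
        simp only [hxx, mul_add, Finset.sum_add_distrib, ← Finset.sum_mul, ← hx₀, hx0l]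
        have : ∑ t, x t * (l * ι (t⁻¹ * s)) = l * (l - l * ι s) := by
          simp only [hxι, sub_mul, one_mul, Finset.sum_sub_distrib, ← Finset.mul_sum, hperm,
            mul_left_comm (ι _) l, hιι]
          ring
        rw [this]
        ring
      have ein := congrArg (fun u : MonoidAlgebra ℤ Q => u.coeff 1) hx3
      have eout := congrArg (fun u : MonoidAlgebra ℤ Q => u.coeff sout) hx3
      simp only [MonoidAlgebra.coeff_add, Finsupp.add_apply, MonoidAlgebra.coeff_smul,
        Finsupp.smul_apply, el_coeff, smul_eq_mul] at ein eout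
      rw [h3] at ein eout
      simp only [hxι, hι, L.one_mem, hsout, if_true, if_false,
        mul_one, mul_zero, zero_add, sub_self, sub_zero] at ein eout
      have hdd : (m - a₁) * (m - a₁ - 2 * l) = 0 := by
        rw [hd, hx0l] at eout
        rw [hx0l] at ein
        linear_combination -eout + ein
      have ha12 : a₁ = m - 2 * l := by
        have := (mul_eq_zero.1 hdd).resolve_left (by linarith [ha1pos.2])
        linarith
      rw [hxx, show ι 1 = 1 from if_pos L.one_mem, mul_one, hd, hx0l, ha12] at h11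
      rw [hx0l, ha12] at hsumA
      have key : m * (3 - l) = 4 * l := by
        refine mul_left_cancel₀ (by linarith : l ≠ 0) ?_
        linear_combination m * h11 - 2 * hsumA
      nlinarith [ha1pos.1, ha1pos.2]
  -- twins
  have hA1per : ∀ s, A₁ (k⁻¹ * s) = A₁ s := by
    intro s
    have key : ∀ t, x (t * k⁻¹) - x t =
        (x k + e) * ((if t = 1 then 1 else 0) - if t = k then 1 else 0) := by
      intro t
      by_cases ht : t = 1
      · subst ht
        rw [if_pos rfl, if_neg hk1.symm, one_mul, hx1]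
        have hkk : x k⁻¹ = x k := by rw [hx' hk1, hx' (inv_ne_one.2 hk1), hsymm]
        rw [hkk]
        ring
      by_cases htk : t = k
      · subst htk
        rw [if_neg ht, if_pos rfl, mul_inv_cancel, hx1]
        ring
      rw [if_neg ht, if_neg htk, hshift t ht htk]
      ring
    have e1 : ∀ s, ∑ t, x t * A₁ (t⁻¹ * s) = f := fun s => by
      rw [el_mul, el_smul] at hxA
      simpa using congrFun (el_ext hxA) s
    have e2 : ∑ t, x (t * k⁻¹) * A₁ (t⁻¹ * s) = f := by
      rw [← e1 (k⁻¹ * s)]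
      exact Fintype.sum_equiv (Equiv.mulRight k⁻¹) _ _ fun t => by
        simp [mul_inv_rev, mul_comm k t⁻¹, mul_assoc]
    have e3 : ∑ t, (x (t * k⁻¹) - x t) * A₁ (t⁻¹ * s) = 0 := by
      rw [Finset.sum_congr rfl fun t _ => sub_mul _ _ _, Finset.sum_sub_distrib, e2, e1, sub_self]
    simp only [key, mul_assoc, ← Finset.mul_sum, sub_mul, ite_mul, one_mul, zero_mul,
      Finset.sum_sub_distrib, Finset.sum_ite_eq', Finset.mem_univ, if_true, inv_one, one_mul] at e3
    have := (mul_eq_zero.1 e3).resolve_left he'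
    linarith
  have e0 : ∑ t, A₀ t * A₀ (t⁻¹ * k) = a₀ - A₀ k := by
    rw [ha₀, ← Finset.sum_erase_eq_sub (Finset.mem_univ k),
      ← Finset.sum_erase (f := fun t => A₀ t * A₀ (t⁻¹ * k)) (a := k) _
        (by rw [inv_mul_cancel, hone, mul_zero])]
    refine Finset.sum_congr rfl fun t ht => ?_
    have htk := Finset.ne_of_mem_erase ht
    rw [← hsymm (t⁻¹ * k), mul_inv_rev, inv_inv, mul_comm k⁻¹]
    by_cases ht1 : t = 1
    · rw [ht1, hone, zero_mul]
    have h2 : t * k⁻¹ ≠ 1 := fun e => htk (mul_inv_eq_one.1 e)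
    have := hshift t ht1 htk
    rw [hx' h2, hx' ht1] at this
    rw [this, sq0]
  have e1 : ∑ t, A₁ t * A₁ (k⁻¹ * t) = a₁ :=
    Finset.sum_congr rfl fun t _ => by rw [hA1per, sq1]
  have e2 := hrot k hk1
  rw [e0, e1] at e2
  rcases h0 k with h | h <;> rw [h] at e2
  · right; left
    rw [ha]
    linear_combination -e2
  · right; right
    rw [ha]
    linear_combination -e2

end

end Cfsg.Agent.Grp.HalfNormalizer
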