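import Cfsg.Agent.Lib.Grp.HalfNormalizer.Lines

/-!
The triple systems `{x, y, x + u * (y - x)}` are not transitive on the points off a line for
`p > 7`: two composite operations distinguish such points.
-/

set_option autoImplicit false

namespace Cfsg.Agent.Grp.HalfNormalizer

variable {p : ℕ} [hp : Fact p.Prime]

theorem isSquare_mul_iff {a b : ZMod p} (ha : a ≠ 0) (hb : b ≠ 0) :
    IsSquare (a * b) ↔ (IsSquare a ↔ IsSquare b) := by
  constructor
  · intro hab
    constructor <;> intro h
    · have := hab.mul h.inv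
      rwa [mul_right_comm, mul_inv_cancel₀ ha, one_mul] at this
    · have := hab.mul h.inv
      rwa [mul_assoc, mul_inv_cancel₀ hb, mul_one] at this
  · intro h
    by_cases hs : IsSquare a
    · exact hs.mul (h.1 hs)
    · have hs' : ¬ IsSquare b := fun e => hs (h.2 e)
      rw [ZMod.euler_criterion p ha] at hs
      rw [ZMod.euler_criterion p hb] at hs'
      rw [ZMod.euler_criterion p (mul_ne_zero ha hb), mul_pow,
        (ZMod.pow_div_two_eq_neg_one_or_one p ha).resolve_left hs,
        (ZMod.pow_div_two_eq_neg_one_or_one p hb).resolve_left hs', neg_mul_neg, one_mul]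

theorem natCast_ne_zero_of_lt {n : ℕ} (hn : 0 < n) (h : n < p) : (n : ZMod p) ≠ 0 := by
  rw [Ne, CharP.cast_eq_zero_iff (ZMod p) p]
  exact fun hd => absurd (Nat.le_of_dvd hn hd) (by omega)

variable {T : ZMod p → ZMod p → ZMod p → Prop}

theorem Lines.not_transitive (h : Lines T) (hneg : ¬ IsSquare (-1 : ZMod p)) (hp7 : 7 < p)
    {u : ZMod p} (hu : u * u - u + 1 = 0) (hT : ∀ z, T 0 1 z ↔ z = u)
    (hB : ∀ z w : ZMod p, z ≠ 0 → z ≠ 1 → z ≠ u → w ≠ 0 → w ≠ 1 → w ≠ u →
      ∃ g : ZMod p → ZMod p, g 0 = 0 ∧ g 1 = 1 ∧ g z = w ∧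
        ∀ x y t, T x y t → T (g x) (g y) (g t)) : False := by
  have h2 : (2 : ZMod p) ≠ 0 := natCast_ne_zero_of_lt (n := 2) (by norm_num) (by omega)
  have h3 : (3 : ZMod p) ≠ 0 := natCast_ne_zero_of_lt (n := 3) (by norm_num) (by omega)
  have h7 : (7 : ZMod p) ≠ 0 := natCast_ne_zero_of_lt (n := 7) (by norm_num) (by omega)
  have hu0 : u ≠ 0 := by
    rintro rfl
    simp at hu
  have hu1 : 1 - u ≠ 0 := fun e => by
    rw [← sub_eq_zero.1 e] at hu
    simp at hu
  have hm1 : (-1 : ZMod p) ≠ 0 := neg_ne_zero.2 one_ne_zero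
  have huns : ¬ IsSquare u := fun hs => hneg (by
    rw [show (-1 : ZMod p) = u * u * u by linear_combination (-u - 1) * hu]
    exact (hs.mul hs).mul hs)
  have hnu : IsSquare (-u) := by
    rw [neg_eq_neg_one_mul, isSquare_mul_iff hm1 hu0]
    exact iff_of_false hneg huns
  have hcns : ¬ IsSquare (1 - u) := by
    rw [show 1 - u = -1 * (u * u) by linear_combination hu, isSquare_mul_iff hm1 (mul_ne_zero hu0 hu0)]
    exact fun e => hneg (e.2 (IsSquare.mul_self u))
  have hu1sq : IsSquare (u - 1) := ⟨u, by linear_combination -hu⟩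
  -- the third point
  have tsq : ∀ {x y : ZMod p} (z : ZMod p), IsSquare (y - x) → y - x ≠ 0 →
      x + u * (y - x) = z → T x y z := by
    rintro x y _ hs h0 rfl
    obtain ⟨w, hw⟩ := hs
    have hw0 : w ≠ 0 := by rintro rfl; exact h0 (by rw [hw, mul_zero])
    have := h.shift x (h.scale hw0 ((hT u).2 rfl))
    rw [← hw, mul_zero, mul_one, zero_add, sub_add_cancel] at this
    rwa [add_comm ((y - x) * u) x, mul_comm (y - x) u] at this
  have tns : ∀ {x y : ZMod p} (z : ZMod p), ¬ IsSquare (y - x) → y - x ≠ 0 →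
      y + u * (x - y) = z → T x y z := by
    intro x y z hs h0 hz
    refine h.symm₁ (tsq z ?_ (fun e => h0 (by linear_combination -e)) hz)
    rw [show x - y = -1 * (y - x) by ring, isSquare_mul_iff hm1 h0]
    exact iff_of_false hneg hs
  have uniq : ∀ {x y z z' : ZMod p}, x ≠ y → T x y z → T x y z' → z = z' := by
    intro x y z z' hxy hz hz'
    by_cases hs : IsSquare (y - x)
    · exact ((h.eq_third hT hneg hxy hz).1 hs).trans ((h.eq_third hT hneg hxy hz').1 hs).symm
    · exact ((h.eq_third hT hneg hxy hz).2 hs).trans ((h.eq_third hT hneg hxy hz').2 hs).symm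
  have hgu : ∀ g : ZMod p → ZMod p, g 0 = 0 → g 1 = 1 →
      (∀ x y t, T x y t → T (g x) (g y) (g t)) → g u = u := by
    intro g g0 g1 hg
    have := hg _ _ _ ((hT u).2 rfl)
    rwa [g0, g1, hT] at this
  by_cases he : IsSquare (2 : ZMod p)
  · -- associativity at `2 - u` but not at `u - 1`
    have h2ns : ∀ {a : ZMod p}, a ≠ 0 → ¬ IsSquare a → ¬ IsSquare (2 * a) := fun ha hs e =>
      hs (((isSquare_mul_iff h2 ha).1 e).1 he)
    have ta : T u (2 - u) (-u) := by
      refine tns _ ?_ ?_ (by linear_combination 2 * hu)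
      · rw [show 2 - u - u = 2 * (1 - u) by ring]
        exact h2ns hu1 hcns
      · rw [show 2 - u - u = 2 * (1 - u) by ring]
        exact mul_ne_zero h2 hu1
    have tb : T 1 (2 - u) (1 - u) := by
      refine tns _ ?_ ?_ (by linear_combination hu)
      · rwa [show 2 - u - 1 = 1 - u by ring]
      · rwa [show 2 - u - 1 = 1 - u by ring]
    have tc : T 0 (1 - u) (-u) := by
      refine tns _ ?_ ?_ (by linear_combination hu) <;> rwa [sub_zero]
    obtain ⟨g, g0, g1, gd, hg⟩ := hB (2 - u) (u - 1) (fun e => h3 (by linear_combination hu + (u + 1) * e))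
      (fun e => hu1 (by linear_combination e)) (fun e => hu1 (mul_left_cancel₀ h2 (by rw [mul_zero]; linear_combination e)))
      (fun e => hu1 (by linear_combination -e))
      (fun e => h3 (by linear_combination hu - (u + 1) * e))
      (fun e => one_ne_zero (α := ZMod p) (by linear_combination -e))
    have gu := hgu g g0 g1 hg
    have ga := hg _ _ _ ta
    have gb := hg _ _ _ tb
    have gc := hg _ _ _ tc
    rw [gu, gd] at ga
    rw [g1, gd] at gb
    rw [g0] at gc
    have hd : u - 1 - u ≠ 0 := by rw [show u - 1 - u = (-1 : ZMod p) by ring]; exact hm1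
    have ea := (h.eq_third hT hneg (fun e => hd (by linear_combination -e)) ga).2
      (by rw [show u - 1 - u = (-1 : ZMod p) by ring]; exact hneg)
    by_cases hb : IsSquare (u - 1 - 1)
    · have eb := (h.eq_third hT hneg (h.ne gb).1 gb).1 hb
      have eb' : g (1 - u) = -u := by linear_combination eb + hu
      rw [eb'] at gc
      have ec := (h.eq_third hT hneg (h.ne gc).1 gc).1 (by rwa [sub_zero])
      exact h7 (by linear_combination 9 * hu + (3 * u - 1) * (ea - ec + hu))
    · have eb := (h.eq_third hT hneg (h.ne gb).1 gb).2 hb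
      have eb' : g (1 - u) = 2 * u := by linear_combination eb - hu
      rw [eb'] at gc
      have ec := (h.eq_third hT hneg (h.ne gc).1 gc).2
        (by rw [sub_zero]; exact h2ns hu0 huns)
      exact h7 (by linear_combination 4 * hu - (2 * u + 1) * (ec - ea - 2 * hu))
  · -- the same with a longer word
    have h2sq : ∀ {a : ZMod p}, a ≠ 0 → ¬ IsSquare a → IsSquare (2 * a) := fun ha hs =>
      (isSquare_mul_iff h2 ha).2 (iff_of_false he hs)
    have h2c : IsSquare (2 * (1 - u)) := h2sq hu1 hcns
    have h2c0 : 2 * (1 - u) ≠ 0 := mul_ne_zero h2 hu1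
    have hp1 : 1 + u ≠ 0 := fun e => h3 (by linear_combination hu + (2 - u) * e)
    have hm2 : 2 - u ≠ 0 := fun e => h3 (by linear_combination hu + (u + 1) * e)
    obtain ⟨a, a', b, b', ta, ta', tb, tb', tc⟩ : ∃ a a' b b', T 0 (1 + u) a ∧ T u a a' ∧
        T 1 (1 + u) b ∧ T u b b' ∧ T a' b' (1 + u) := by
      have hop : IsSquare (1 + u) ↔ ¬ IsSquare (2 - u) := by
        have e : 1 + u = u * (2 - u) := by linear_combination hu
        conv_lhs => rw [e, isSquare_mul_iff hu0 hm2]
        exact ⟨fun e hs => huns (e.2 hs), fun e => iff_of_false huns e⟩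
      have tb : T 1 (1 + u) 2 := by
        refine tns _ ?_ ?_ (by linear_combination -hu) <;> rwa [add_sub_cancel_left]
      by_cases hs : IsSquare (1 + u)
      · refine ⟨2 * u - 1, u - 1, 2, 1 - u, tsq _ (by rwa [sub_zero]) (by rwa [sub_zero])
          (by linear_combination hu), ?_, tb, ?_, ?_⟩
        · refine tsq _ ?_ ?_ (by linear_combination hu) <;> rw [show 2 * u - 1 - u = u - 1 by ring]
          · exact hu1sq
          · exact fun e => hu1 (by linear_combination -e)
        · exact tns _ (hop.1 hs) hm2 (by linear_combination hu)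
        · refine tsq _ ?_ ?_ (by linear_combination -2 * hu) <;>
            rwa [show 1 - u - (u - 1) = 2 * (1 - u) by ring]
      · have hs' : IsSquare (2 - u) := by_contra fun e => hs (hop.2 e)
        refine ⟨2 - u, u + 2, 2, 2 * u + 1, tns _ (by rwa [sub_zero]) (by rwa [sub_zero])
          (by linear_combination -hu), ?_, tb, ?_, ?_⟩
        · refine tsq _ ?_ ?_ (by linear_combination -2 * hu) <;>
            rwa [show 2 - u - u = 2 * (1 - u) by ring]
        · exact tsq _ hs' hm2 (by linear_combination -hu)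
        · refine tsq _ ?_ ?_ (by linear_combination hu) <;>
            rw [show 2 * u + 1 - (u + 2) = u - 1 by ring]
          · exact hu1sq
          · exact fun e => hu1 (by linear_combination -e)
    obtain ⟨g, g0, g1, gd, hg⟩ := hB (1 + u) (1 - u) hp1
      (fun e => hu0 (by linear_combination e)) (fun e => one_ne_zero (α := ZMod p) (by linear_combination e))
      hu1 (fun e => hu0 (by linear_combination -e))
      (fun e => h3 (by linear_combination 4 * hu + (2 * u - 1) * e))
    have gu := hgu g g0 g1 hg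
    have ga := hg _ _ _ ta
    have ga' := hg _ _ _ ta'
    have gb := hg _ _ _ tb
    have gb' := hg _ _ _ tb'
    have gc := hg _ _ _ tc
    rw [g0, gd] at ga
    rw [gu] at ga' gb'
    rw [g1, gd] at gb
    rw [gd] at gc
    have ea := (h.eq_third hT hneg (h.ne ga).1 ga).2 (by rwa [sub_zero])
    have ea1 : g a = -u := by linear_combination ea + hu
    rw [ea1] at ga'
    have ea' := (h.eq_third hT hneg (h.ne ga').1 ga').2 (by
      rw [show -u - u = 2 * -u by ring]
      exact fun e => he (((isSquare_mul_iff h2 (neg_ne_zero.2 hu0)).1 e).2 hnu))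
    have ea2 : g a' = u - 2 := by linear_combination ea' + 2 * hu
    have eb := (h.eq_third hT hneg (h.ne gb).1 gb).1 (by rwa [show 1 - u - 1 = -u by ring])
    have eb1 : g b = 2 - u := by linear_combination eb - hu
    rw [eb1] at gb'
    have eb' := (h.eq_third hT hneg (h.ne gb').1 gb').1
      (by rwa [show 2 - u - u = 2 * (1 - u) by ring])
    have eb2 : g b' = u + 2 := by linear_combination eb' - 2 * hu
    rw [ea2, eb2] at gc
    have ec := (h.eq_third hT hneg (h.ne gc).1 gc).1
      (by rw [show u + 2 - (u - 2) = 2 * 2 by ring]; exact IsSquare.mul_self 2)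
    -- now `2 * u = 1`
    have hhalf : 2 * u = 1 := mul_left_cancel₀ h3 (by linear_combination -ec)
    exact h3 (by linear_combination 4 * hu + (-2 * u + 1) * hhalf)

end Cfsg.Agent.Grp.HalfNormalizer
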