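import Cfsg.Agent.Lib.Grp.HalfNormalizer.Action
import Cfsg.Agent.Lib.Grp.HalfNormalizer.Netto
import Cfsg.Agent.S0676

/-!
An insoluble group of prime degree `p > 7` with half Sylow normaliser preserves no system of
"lines" of its point stabilisers.
-/

set_option autoImplicit false

namespace Cfsg.Agent.Grp.HalfNormalizer

open MulAction

variable {G Ω : Type*} [Group G] [MulAction G Ω]

/-- Two invariant proper sets for a stabiliser with two orbits coincide or are complementary. -/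
theorem iff_or_iff_not {P : Ω → Prop} {S : G → Prop} {U V : Ω → Prop} {c d : Ω}
    (hcover : ∀ z, P z → ∃ g, S g ∧ (g • c = z ∨ g • d = z))
    (hU : ∀ g, S g → ∀ z, U (g • z) ↔ U z) (hV : ∀ g, S g → ∀ z, V (g • z) ↔ V z)
    (hU1 : ∃ z, P z ∧ U z) (hU0 : ∃ z, P z ∧ ¬ U z) (hV1 : ∃ z, P z ∧ V z)
    (hV0 : ∃ z, P z ∧ ¬ V z) :
    (∀ z, P z → (U z ↔ V z)) ∨ ∀ z, P z → (U z ↔ ¬ V z) := by
  have key : ∀ W : Ω → Prop, (∀ g, S g → ∀ z, W (g • z) ↔ W z) →
      (∃ z, P z ∧ W z) → (∃ z, P z ∧ ¬ W z) → (W c ↔ ¬ W d) ∧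
      ∀ z, P z → ∀ g, S g → (g • c = z → (W z ↔ W c)) ∧ (g • d = z → (W z ↔ W d)) := by
    intro W hW h1 h0
    refine ⟨?_, fun z _ g hg => ⟨fun e => e ▸ hW g hg c, fun e => e ▸ hW g hg d⟩⟩
    obtain ⟨x, hx, hWx⟩ := h1
    obtain ⟨y, hy, hWy⟩ := h0
    obtain ⟨g, hg, hgx⟩ := hcover x hx
    obtain ⟨k, hk, hky⟩ := hcover y hy
    rcases hgx with rfl | rfl <;> rcases hky with rfl | rfl <;> rw [hW g hg] at hWx <;>
      rw [hW k hk] at hWy
    · exact absurd hWx hWy
    · exact iff_of_true hWx hWy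
    · exact iff_of_false hWy (not_not.2 hWx)
    · exact absurd hWx hWy
  obtain ⟨hUc, hUz⟩ := key U hU hU1 hU0
  obtain ⟨hVc, hVz⟩ := key V hV hV1 hV0
  by_cases h : U c ↔ V c
  · left
    intro z hz
    obtain ⟨g, hg, hgz | hgz⟩ := hcover z hz
    · rw [(hUz z hz g hg).1 hgz, (hVz z hz g hg).1 hgz, h]
    · rw [(hUz z hz g hg).2 hgz, (hVz z hz g hg).2 hgz]
      tauto
  · right
    intro z hz
    obtain ⟨g, hg, hgz | hgz⟩ := hcover z hz
    · rw [(hUz z hz g hg).1 hgz, (hVz z hz g hg).1 hgz]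
      tauto
    · rw [(hUz z hz g hg).2 hgz, (hVz z hz g hg).2 hgz]
      tauto

variable [FaithfulSMul G Ω] [Finite G] [Finite Ω] {p : ℕ} [hp : Fact p.Prime]

/-- When `-1` is a square the action is triply transitive. -/
theorem Hyp.three_of_neg_one (h : Hyp G Ω p) (hs : IsSquare (-1 : ZMod p)) (hp2 : p ≠ 2) :
    IsMultiplyPretransitive G Ω 3 := by
  classical
  have := Fintype.ofFinite Ω
  have := h.trans
  obtain ⟨e, ⟨σ, hσ⟩, hsq⟩ := h.coords
  obtain ⟨u, hu⟩ := hs
  have hu0 : u ≠ 0 := by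
    rintro rfl
    exact neg_ne_zero.2 one_ne_zero (hu.trans (mul_zero 0))
  obtain ⟨t, ht⟩ := hsq u hu0
  let f : G →* (MulAction.toPermHom G Ω).range := (MulAction.toPermHom G Ω).rangeRestrict
  have : IsPretransitive (MulAction.toPermHom G Ω).range Ω :=
    ⟨fun x y => by
      obtain ⟨g, hg⟩ := MulAction.exists_smul_eq G x y
      exact ⟨f g, hg⟩⟩
  have hf : Function.Injective f :=
    (MonoidHom.rangeRestrict_injective_iff).2 MulAction.toPerm_injective
  have hα : Fintype.card Ω = p := by rw [← Nat.card_eq_fintype_card, h.card]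
  have hσn : ∀ (n : ℕ) j, σ ^ n • e j = e (j + n) := by
    intro n
    induction n with
    | zero => simp
    | succ n ih =>
      intro j
      rw [pow_succ', mul_smul, ih, hσ, Nat.cast_succ, add_assoc]
  have ext : ∀ g k : G, (∀ j, g • e j = k • e j) → g = k := fun g k hgk =>
    FaithfulSMul.eq_of_smul_eq_smul (α := Ω) fun z => by
      rw [← e.apply_symm_apply z]
      exact hgk _
  have hord : orderOf σ = p := by
    refine orderOf_eq_prime (ext _ _ fun j => ?_) fun e1 => ?_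
    · rw [hσn, ZMod.natCast_self, add_zero, one_smul]
    · have := hσ 0
      rw [e1, one_smul, zero_add] at this
      exact zero_ne_one (e.injective this)
  have htinv : ∀ j, t • e j = e (-j) := fun j => by rw [ht, ← hu, neg_one_mul]
  have htt : t * t = 1 := ext _ _ fun j => by rw [mul_smul, htinv, htinv, neg_neg, one_smul]
  have hconj : t * σ * t = σ⁻¹ := by
    refine ext _ _ fun j => ?_
    rw [eq_inv_smul_iff, mul_smul, mul_smul, htinv, hσ, htinv, hσ]
    congr 1
    ring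
  have ht2 : orderOf t = 2 := by
    refine orderOf_eq_prime (by rw [sq, htt]) fun e1 => ?_
    have := htinv 1
    rw [e1, one_smul] at this
    have h1 : (2 : ZMod p) = 0 := by linear_combination e.injective this
    rw [show (2 : ZMod p) = ((2 : ℕ) : ZMod p) by norm_num, CharP.cast_eq_zero_iff (ZMod p) p] at h1
    exact hp2 ((Nat.prime_dvd_prime_iff_eq hp.out Nat.prime_two).1 h1)
  -- move to the group of permutations
  have hQp : IsPGroup p (Subgroup.zpowers (f σ)) := IsPGroup.of_card (n := 1) (by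
    rw [Nat.card_zpowers, orderOf_injective f hf, hord, pow_one])
  obtain ⟨P, hP⟩ := hQp.exists_le_sylow
  have hPeq : (P : Subgroup _) = Subgroup.zpowers (f σ) := by
    refine (Subgroup.eq_of_le_of_card_ge hP ?_).symm
    rw [Cfsg.Agent.Block.primeDeg_card_sylow hα _ P, Nat.card_zpowers, orderOf_injective f hf, hord]
  have hnorm : f t ∈ Subgroup.normalizer ((P : Subgroup ↥(MulAction.toPermHom G Ω).range) : Set ↥(MulAction.toPermHom G Ω).range) := by
    rw [hPeq]
    have htinv' : (f t)⁻¹ = f t := by rw [← map_inv, inv_eq_of_mul_eq_one_left htt]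
    have h1 : f t * f σ * (f t)⁻¹ = (f σ)⁻¹ := by
      rw [htinv', ← map_mul, ← map_mul, hconj, map_inv]
    have hfwd : ∀ x ∈ Subgroup.zpowers (f σ), f t * x * (f t)⁻¹ ∈ Subgroup.zpowers (f σ) := by
      intro x hx
      obtain ⟨n, rfl⟩ := Subgroup.mem_zpowers_iff.1 hx
      rw [← conj_zpow, h1]
      exact Subgroup.zpow_mem _ (inv_mem (Subgroup.mem_zpowers _)) n
    refine Subgroup.mem_normalizer_iff.2 fun x => ⟨hfwd x, fun hx => ?_⟩
    have h2 := hfwd _ hx
    have htt' : f t * f t = 1 := by rw [← map_mul, htt, map_one]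
    rw [htinv', show f t * (f t * x * f t) * f t = f t * f t * x * (f t * f t) by
      simp only [mul_assoc], htt', one_mul, mul_one] at h2
    exact h2
  have heven : Even (Nat.card (Subgroup.normalizer
      ((P : Subgroup ↥(MulAction.toPermHom G Ω).range) : Set ↥(MulAction.toPermHom G Ω).range))) := by
    rw [even_iff_two_dvd]
    have h1 := orderOf_dvd_natCard (⟨f t, hnorm⟩ : Subgroup.normalizer
      ((P : Subgroup ↥(MulAction.toPermHom G Ω).range) : Set ↥(MulAction.toPermHom G Ω).range))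
    rwa [← Subgroup.orderOf_coe, orderOf_injective f hf, ht2] at h1
  have h3 := Cfsg.Agent.S0676.result hα (MulAction.toPermHom G Ω).range
    (fun hsol => h.insoluble (solvable_of_solvable_injective hf)) P heven
  refine ⟨fun x y => ?_⟩
  obtain ⟨⟨_, g, rfl⟩, hg⟩ := h3.exists_smul_eq x y
  exact ⟨g, hg⟩

/-- No family of lines through the points is invariant. -/
theorem Hyp.no_lines (h : Hyp G Ω p) (hp7 : 7 < p) (W : Ω → Ω → Ω → Prop)
    (hne : ∀ {x y z}, W x y z → x ≠ y ∧ y ≠ z ∧ x ≠ z)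
    (hinv : ∀ (g : G) {x y z}, W x y z → W (g • x) (g • y) (g • z))
    (hsymm : ∀ {x y z}, W x y z → W x z y)
    (htrans : ∀ {x y z w}, W x y z → W x y w → z ≠ w → W x z w)
    (hsome : ∃ x y z, W x y z)
    (hproper : ∃ x y z : Ω, x ≠ y ∧ y ≠ z ∧ x ≠ z ∧ ¬ W x y z) : False := by
  classical
  have := Fintype.ofFinite Ω
  have hinv' : ∀ (g : G) x y z, W (g • x) (g • y) (g • z) ↔ W x y z := fun g x y z =>
    ⟨fun hW => by simpa using hinv g⁻¹ hW, hinv g⟩
  have hpair : ∀ a b : Ω, a ≠ b → (∃ z, (z ≠ a ∧ z ≠ b) ∧ W a b z) ∧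
      ∃ z, (z ≠ a ∧ z ≠ b) ∧ ¬ W a b z := by
    intro a b hab
    constructor
    · obtain ⟨x, y, z, hW⟩ := hsome
      obtain ⟨g, rfl, rfl⟩ := h.two (hne hW).1 hab
      exact ⟨g • z, ⟨fun e => (hne hW).2.2 (MulAction.injective g e).symm,
        fun e => (hne hW).2.1 (MulAction.injective g e).symm⟩, hinv g hW⟩
    · obtain ⟨x, y, z, hxy, hyz, hxz, hW⟩ := hproper
      obtain ⟨g, rfl, rfl⟩ := h.two hxy hab
      exact ⟨g • z, ⟨fun e => hxz (MulAction.injective g e).symm,
        fun e => hyz (MulAction.injective g e).symm⟩, fun hW' => hW ((hinv' g x y z).1 hW')⟩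
  rcases h.dichotomy with h3 | h4
  · obtain ⟨x, y, z, hW⟩ := hsome
    obtain ⟨x', y', z', hxy, hyz, hxz, hW'⟩ := hproper
    let a : Fin 3 ↪ Ω := ⟨![x, y, z], by
      intro i j hij
      obtain ⟨h1, h2, h3⟩ := hne hW
      fin_cases i <;> fin_cases j <;> simp_all⟩
    let b : Fin 3 ↪ Ω := ⟨![x', y', z'], by
      intro i j hij
      fin_cases i <;> fin_cases j <;> simp_all⟩
    obtain ⟨g, hg⟩ := h3.exists_smul_eq a b
    have e : ∀ i, g • a i = b i := fun i => DFunLike.congr_fun hg i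
    have e0 : g • x = x' := e 0
    have e1 : g • y = y' := e 1
    have e2 : g • z = z' := e 2
    exact hW' (e0 ▸ e1 ▸ e2 ▸ hinv g hW)
  -- full symmetry
  have hsym : ∀ a b z, W a b z → W b a z := by
    intro a b z hW
    obtain ⟨hab, hbz, haz⟩ := hne hW
    obtain ⟨c, d, -, -, -, -, -, hcov⟩ := h4 a b hab
    have hiff := iff_or_iff_not (P := fun w => w ≠ a ∧ w ≠ b) (S := fun g : G => g • a = a ∧ g • b = b)
      (U := fun w => W a b w) (V := fun w => W b a w)
      (fun w hw => (hcov w hw.1 hw.2).imp fun g hg => ⟨⟨hg.1, hg.2.1⟩, hg.2.2⟩)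
      (fun g hg w => by rw [← hinv' g a b w, hg.1, hg.2])
      (fun g hg w => by rw [← hinv' g b a w, hg.1, hg.2])
      (hpair a b hab).1 (hpair a b hab).2
      ((hpair b a hab.symm).1.imp fun w hw => ⟨hw.1.symm, hw.2⟩)
      ((hpair b a hab.symm).2.imp fun w hw => ⟨hw.1.symm, hw.2⟩)
    rcases hiff with heq | hne'
    · exact (heq z ⟨haz.symm, hbz.symm⟩).1 hW
    exfalso
    obtain ⟨g, ga, gb⟩ := h.two hab hab.symm
    let S : Ω → Ω → Finset Ω := fun x y => Finset.univ.filter fun w => W x y w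
    have hcard : (S a b).card = (S b a).card := by
      refine Finset.card_bij (fun w _ => g • w) (fun w hw => ?_)
        (fun w _ w' _ e => MulAction.injective g e) fun w hw => ⟨g⁻¹ • w, ?_, smul_inv_smul g w⟩
      · simp only [S, Finset.mem_filter, Finset.mem_univ, true_and] at hw ⊢
        rw [← ga]
        nth_rw 2 [← gb]
        exact hinv g hw
      · simp only [S, Finset.mem_filter, Finset.mem_univ, true_and] at hw ⊢
        rw [← hinv' g, smul_inv_smul, ga, gb]
        exact hw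
    have hunion : S a b ∪ S b a = (Finset.univ.erase a).erase b := by
      ext w
      simp only [S, Finset.mem_union, Finset.mem_filter, Finset.mem_univ, true_and,
        Finset.mem_erase, and_true]
      constructor
      · rintro (hw | hw) <;> obtain ⟨h1, h2, h3⟩ := hne hw
        · exact ⟨h2.symm, h3.symm⟩
        · exact ⟨h3.symm, h2.symm⟩
      · intro hw
        by_cases h1 : W b a w
        · exact Or.inr h1
        · exact Or.inl ((hne' w ⟨hw.2, hw.1⟩).2 h1)
    have hdisj : Disjoint (S a b) (S b a) := by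
      refine Finset.disjoint_left.2 fun w h1 h2 => ?_
      simp only [S, Finset.mem_filter, Finset.mem_univ, true_and] at h1 h2
      exact (hne' w ⟨(hne h1).2.2.symm, (hne h1).2.1.symm⟩).1 h1 h2
    have hsum := Finset.card_union_of_disjoint hdisj
    rw [hunion, Finset.card_erase_of_mem (Finset.mem_erase.2 ⟨hab.symm, Finset.mem_univ _⟩),
      Finset.card_erase_of_mem (Finset.mem_univ _), Finset.card_univ,
      ← Nat.card_eq_fintype_card, h.card] at hsum
    have := hp.out.eq_two_or_odd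
    omega
  obtain ⟨e, ⟨σ, hσ⟩, hsq⟩ := h.coords
  have hneg : ¬ IsSquare (-1 : ZMod p) := by
    intro hs
    have h3 := h.three_of_neg_one hs (by omega)
    obtain ⟨c, d, hca, hcb, hda, hdb, hsep, -⟩ := h4 (e 0) (e 1) fun e' => zero_ne_one (e.injective e')
    let a : Fin 3 ↪ Ω := ⟨![e 0, e 1, c], by
      intro i j hij
      fin_cases i <;> fin_cases j <;> simp_all⟩
    let b : Fin 3 ↪ Ω := ⟨![e 0, e 1, d], by
      intro i j hij
      fin_cases i <;> fin_cases j <;> simp_all⟩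
    obtain ⟨g, hg⟩ := h3.exists_smul_eq a b
    exact hsep g (DFunLike.congr_fun hg 0) (DFunLike.congr_fun hg 1) (DFunLike.congr_fun hg 2)
  have hσn : ∀ (n : ℕ) j, σ ^ n • e j = e (j + n) := by
    intro n
    induction n with
    | zero => simp
    | succ n ih =>
      intro j
      rw [pow_succ', mul_smul, ih, hσ, Nat.cast_succ, add_assoc]
  have hlines : Lines (fun x y z => W (e x) (e y) (e z)) :=
    { ne := fun {x y z} hW => by
        obtain ⟨h1, h2, h3⟩ := hne hW
        exact ⟨fun h => h1 (h ▸ rfl), fun h => h2 (h ▸ rfl), fun h => h3 (h ▸ rfl)⟩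
      symm₁ := fun {x y z} hW => hsym _ _ _ hW
      symm₂ := fun {x y z} hW => hsymm hW
      trans := fun {x y z w} h1 h2 hzw => htrans h1 h2 fun he => hzw (e.injective he)
      shift := fun c {x y z} hW => by
        have := hinv (σ ^ c.val) hW
        simpa only [hσn, ZMod.natCast_zmod_val] using this
      scale := fun {u} hu {x y z} hW => by
        obtain ⟨g, hg⟩ := hsq u hu
        have := hinv g hW
        simpa only [hg] using this
      proper := by
        obtain ⟨z, ⟨hz0, hz1⟩, hz⟩ := (hpair (e 0) (e 1) fun e' => zero_ne_one (e.injective e')).2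
        obtain ⟨j, rfl⟩ := e.surjective z
        exact ⟨j, fun h => hz0 (h ▸ rfl), fun h => hz1 (h ▸ rfl), hz⟩
      nonempty := by
        obtain ⟨z, -, hz⟩ := (hpair (e 0) (e 1) fun e' => zero_ne_one (e.injective e')).1
        exact ⟨e.symm z, by rwa [e.apply_symm_apply]⟩ }
  obtain ⟨u, hu, hT⟩ := hlines.exists_root hneg
  refine hlines.not_transitive hneg hp7 hu hT fun z w hz0 hz1 hzu hw0 hw1 hwu => ?_
  obtain ⟨c, d, -, -, -, -, -, hcov⟩ := h4 (e 0) (e 1) fun e' => zero_ne_one (e.injective e')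
  have hWu : W (e 0) (e 1) (e u) := (hT u).2 rfl
  have hu' : e u ≠ e 0 ∧ e u ≠ e 1 := ⟨(hne hWu).2.2.symm, (hne hWu).2.1.symm⟩
  have hfix : ∀ g : G, g • e 0 = e 0 → g • e 1 = e 1 → g • e u = e u := by
    intro g g0 g1
    have h1 := hinv g hWu
    rw [g0, g1, ← e.apply_symm_apply (g • e u)] at h1
    rw [← e.apply_symm_apply (g • e u), (hT _).1 h1]
  suffices ∃ g : G, g • e 0 = e 0 ∧ g • e 1 = e 1 ∧ g • e z = e w by
    obtain ⟨g, g0, g1, gz⟩ := this
    refine ⟨fun j => e.symm (g • e j), by simp [g0], by simp [g1], by simp [gz], fun x y t hW => ?_⟩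
    simpa only [e.apply_symm_apply] using hinv g hW
  obtain ⟨k, k0, k1, hk⟩ := hcov (e u) hu'.1 hu'.2
  obtain ⟨g, g0, g1, hg⟩ := hcov (e z) (e.injective.ne hz0) (e.injective.ne hz1)
  obtain ⟨l, l0, l1, hl⟩ := hcov (e w) (e.injective.ne hw0) (e.injective.ne hw1)
  have hgi : g⁻¹ • e 0 = e 0 ∧ g⁻¹ • e 1 = e 1 :=
    ⟨inv_smul_eq_iff.2 g0.symm, inv_smul_eq_iff.2 g1.symm⟩
  have hki : k⁻¹ • e 0 = e 0 ∧ k⁻¹ • e 1 = e 1 :=
    ⟨inv_smul_eq_iff.2 k0.symm, inv_smul_eq_iff.2 k1.symm⟩
  have hbad : ∀ {r : Ω} {g : G} {x : ZMod p}, g • e 0 = e 0 → g • e 1 = e 1 → x ≠ u →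
      k • r = e u → g • r ≠ e x := by
    intro r g x g0 g1 hx hr hgr
    have h1 : (g * k⁻¹) • e u = e x := by
      rw [mul_smul, ← hr, inv_smul_smul, hgr]
    rw [hfix _ (by rw [mul_smul, hki.1, g0]) (by rw [mul_smul, hki.2, g1])] at h1
    exact hx (e.injective h1).symm
  have hlg : (l * g⁻¹) • e 0 = e 0 ∧ (l * g⁻¹) • e 1 = e 1 :=
    ⟨by rw [mul_smul, hgi.1, l0], by rw [mul_smul, hgi.2, l1]⟩
  rcases hk with hk | hk
  · have hg' := hg.resolve_left (hbad g0 g1 hzu hk)
    have hl' := hl.resolve_left (hbad l0 l1 hwu hk)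
    exact ⟨l * g⁻¹, hlg.1, hlg.2, by rw [mul_smul, ← hg', inv_smul_smul, hl']⟩
  · have hg' := hg.resolve_right (hbad g0 g1 hzu hk)
    have hl' := hl.resolve_right (hbad l0 l1 hwu hk)
    exact ⟨l * g⁻¹, hlg.1, hlg.2, by rw [mul_smul, ← hg', inv_smul_smul, hl']⟩

end Cfsg.Agent.Grp.HalfNormalizer
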