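import Mathlib
import Cfsg.Agent.Lib.Grp.HalfNormalizer.System

/-!
The orbit of a quadruple under a triply transitive group whose three-point stabilisers have two
orbits on an odd number of other points is symmetric.
-/

set_option autoImplicit false

namespace Cfsg.Agent.Grp.HalfNormalizer

open MulAction

variable {X Ω : Type*} [Group X] [MulAction X Ω]

/-- Two orbits of the stabiliser of a base triple. -/
structure Two (X : Type*) {Ω : Type*} [Group X] [MulAction X Ω] (o a b c d : Ω) : Prop where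
  oa : o ≠ a
  ab : a ≠ b
  ob : o ≠ b
  co : c ≠ o
  ca : c ≠ a
  cb : c ≠ b
  dmem : d ≠ o ∧ d ≠ a ∧ d ≠ b
  three : ∀ {x y z : Ω}, x ≠ y → y ≠ z → x ≠ z → ∃ g : X, g • o = x ∧ g • a = y ∧ g • b = z
  sep : ∀ g : X, g • o = o → g • a = a → g • b = b → g • c ≠ d
  cover : ∀ w, w ≠ o → w ≠ a → w ≠ b →
    ∃ g : X, g • o = o ∧ g • a = a ∧ g • b = b ∧ (g • c = w ∨ g • d = w)

/-- The orbit of a quadruple. -/
def InOrbit (X : Type*) {Ω : Type*} [Group X] [MulAction X Ω] (o a b c x y z t : Ω) : Prop :=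
  ∃ g : X, g • o = x ∧ g • a = y ∧ g • b = z ∧ g • c = t

variable {o a b c d x y z t : Ω}

theorem InOrbit.smul (g : X) (h : InOrbit X o a b c x y z t) :
    InOrbit X o a b c (g • x) (g • y) (g • z) (g • t) := by
  obtain ⟨k, rfl, rfl, rfl, rfl⟩ := h
  exact ⟨g * k, mul_smul .., mul_smul .., mul_smul .., mul_smul ..⟩

theorem inOrbit_smul_iff (g : X) :
    InOrbit X o a b c (g • x) (g • y) (g • z) (g • t) ↔ InOrbit X o a b c x y z t :=
  ⟨fun h => by simpa using h.smul g⁻¹, InOrbit.smul g⟩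

theorem inOrbit_fix (g : X) (hx : g • x = x) (hy : g • y = y) (hz : g • z = z) (w : Ω) :
    InOrbit X o a b c x y z (g • w) ↔ InOrbit X o a b c x y z w := by
  have := inOrbit_smul_iff (o := o) (a := a) (b := b) (c := c) (x := x) (y := y) (z := z) (t := w) g
  rwa [hx, hy, hz] at this

theorem inOrbit_fix_third (g : X) (hx : g • x = x) (hy : g • y = y) (ht : g • t = t) (w : Ω) :
    InOrbit X o a b c x y (g • w) t ↔ InOrbit X o a b c x y w t := by
  have := inOrbit_smul_iff (o := o) (a := a) (b := b) (c := c) (x := x) (y := y) (z := w) (t := t) g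
  rwa [hx, hy, ht] at this

theorem Two.ne (h : Two X o a b c d) (hR : InOrbit X o a b c x y z t) :
    x ≠ y ∧ x ≠ z ∧ x ≠ t ∧ y ≠ z ∧ y ≠ t ∧ z ≠ t := by
  obtain ⟨g, rfl, rfl, rfl, rfl⟩ := hR
  simp only [Ne, smul_left_cancel_iff]
  exact ⟨h.oa, h.ob, h.co.symm, h.ab, h.ca.symm, h.cb.symm⟩

theorem Two.base (_h : Two X o a b c d) : InOrbit X o a b c o a b c :=
  ⟨1, one_smul .., one_smul .., one_smul .., one_smul ..⟩

theorem Two.notMem (h : Two X o a b c d) : ¬ InOrbit X o a b c o a b d := by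
  rintro ⟨g, g1, g2, g3, g4⟩
  exact h.sep g g1 g2 g3 g4

variable [Fintype Ω] [DecidableEq Ω]

theorem Two.card_others (h : Two X o a b c d) :
    (Finset.univ.filter fun w => w ≠ o ∧ w ≠ a ∧ w ≠ b).card = Fintype.card Ω - 3 := by
  have : (Finset.univ.filter fun w => w ≠ o ∧ w ≠ a ∧ w ≠ b) = Finset.univ \ {o, a, b} := by
    ext w
    simp
  rw [this, Finset.card_univ_diff]
  congr 1
  rw [Finset.card_insert_of_notMem (by simp [h.oa, h.ob]), Finset.card_pair h.ab]

/-- Two sets of the same size cannot be complementary among an odd number of points. -/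
theorem Two.not_compl (h : Two X o a b c d) (hodd : Odd (Fintype.card Ω - 3)) {U V : Ω → Prop}
    [DecidablePred U] [DecidablePred V]
    (hU : ∀ w, U w → w ≠ o ∧ w ≠ a ∧ w ≠ b) (hV : ∀ w, V w → w ≠ o ∧ w ≠ a ∧ w ≠ b)
    (hcard : (Finset.univ.filter U).card = (Finset.univ.filter V).card)
    (hcompl : ∀ w, (w ≠ o ∧ w ≠ a ∧ w ≠ b) → (U w ↔ ¬ V w)) : False := by
  have hunion : (Finset.univ.filter U) ∪ Finset.univ.filter V =
      Finset.univ.filter fun w => w ≠ o ∧ w ≠ a ∧ w ≠ b := by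
    ext w
    simp only [Finset.mem_union, Finset.mem_filter, Finset.mem_univ, true_and]
    refine ⟨fun hw => hw.elim (hU w) (hV w), fun hw => ?_⟩
    by_cases h1 : V w
    · exact Or.inr h1
    · exact Or.inl ((hcompl w hw).2 h1)
  have hdisj : Disjoint (Finset.univ.filter U) (Finset.univ.filter V) := by
    refine Finset.disjoint_left.2 fun w h1 h2 => ?_
    simp only [Finset.mem_filter, Finset.mem_univ, true_and] at h1 h2
    exact (hcompl w (hU w h1)).1 h1 h2
  have hsum := Finset.card_union_of_disjoint hdisj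
  rw [hunion, h.card_others, hcard] at hsum
  rw [hsum] at hodd
  obtain ⟨k, hk⟩ := hodd
  omega

open Classical in
/-- The number of fourth points for a triple does not depend on the triple. -/
theorem Two.card_eq (h : Two X o a b c d) (hxy : x ≠ y) (hyz : y ≠ z) (hxz : x ≠ z) :
    (Finset.univ.filter fun w => InOrbit X o a b c x y z w).card =
      (Finset.univ.filter fun w => InOrbit X o a b c o a b w).card := by
  obtain ⟨g, hx, hy, hz⟩ := h.three hxy hyz hxz
  subst hx hy hz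
  refine (Finset.card_equiv (MulAction.toPerm g) fun w => ?_).symm
  simp [inOrbit_smul_iff]

open Classical in
theorem Two.perm_base (h : Two X o a b c d) (hodd : Odd (Fintype.card Ω - 3)) {x y z : Ω}
    (hxy : x ≠ y) (hyz : y ≠ z) (hxz : x ≠ z)
    (hfix : ∀ g : X, g • o = o → g • a = a → g • b = b → g • x = x ∧ g • y = y ∧ g • z = z)
    (hset : ∀ w, (w ≠ x ∧ w ≠ y ∧ w ≠ z) ↔ (w ≠ o ∧ w ≠ a ∧ w ≠ b)) :
    InOrbit X o a b c x y z c := by
  obtain ⟨g, gx, gy, gz⟩ := h.three hxy hyz hxz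
  have hV : ∀ w, InOrbit X o a b c x y z w → w ≠ o ∧ w ≠ a ∧ w ≠ b := fun w hw => by
    obtain ⟨-, -, h1, -, h2, h3⟩ := h.ne hw
    exact (hset w).1 ⟨h1.symm, h2.symm, h3.symm⟩
  have hU : ∀ w, InOrbit X o a b c o a b w → w ≠ o ∧ w ≠ a ∧ w ≠ b := fun w hw => by
    obtain ⟨-, -, h1, -, h2, h3⟩ := h.ne hw
    exact ⟨h1.symm, h2.symm, h3.symm⟩
  have hgd : g • d ≠ o ∧ g • d ≠ a ∧ g • d ≠ b := (hset _).1 (by
    rw [← gx, ← gy, ← gz]
    simp only [Ne, smul_left_cancel_iff]
    exact h.dmem)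
  have hgc : InOrbit X o a b c x y z (g • c) := ⟨g, gx, gy, gz, rfl⟩
  have hiff := iff_or_iff_not (P := fun w => w ≠ o ∧ w ≠ a ∧ w ≠ b)
    (S := fun g : X => g • o = o ∧ g • a = a ∧ g • b = b)
    (U := fun w => InOrbit X o a b c o a b w) (V := fun w => InOrbit X o a b c x y z w)
    (fun w hw => (h.cover w hw.1 hw.2.1 hw.2.2).imp fun k hk => ⟨⟨hk.1, hk.2.1, hk.2.2.1⟩, hk.2.2.2⟩)
    (fun k hk w => inOrbit_fix k hk.1 hk.2.1 hk.2.2 w)
    (fun k hk w => inOrbit_fix k (hfix k hk.1 hk.2.1 hk.2.2).1 (hfix k hk.1 hk.2.1 hk.2.2).2.1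
      (hfix k hk.1 hk.2.1 hk.2.2).2.2 w)
    ⟨c, ⟨h.co, h.ca, h.cb⟩, h.base⟩ ⟨d, h.dmem, h.notMem⟩ ⟨g • c, hV _ hgc, hgc⟩
    ⟨g • d, hgd, fun hh => h.notMem ((inOrbit_smul_iff g).1 (by rw [gx, gy, gz]; exact hh))⟩
  rcases hiff with heq | hne
  · exact (heq c ⟨h.co, h.ca, h.cb⟩).1 h.base
  · exact (h.not_compl hodd hU hV (h.card_eq hxy hyz hxz).symm hne).elim

theorem Two.swap12 (h : Two X o a b c d) (hodd : Odd (Fintype.card Ω - 3))
    (hR : InOrbit X o a b c x y z t) : InOrbit X o a b c y x z t := by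
  obtain ⟨g, rfl, rfl, rfl, rfl⟩ := hR
  exact (h.perm_base hodd h.oa.symm h.ob h.ab (fun _ h1 h2 h3 => ⟨h2, h1, h3⟩)
    (fun w => by tauto)).smul g

theorem Two.swap23 (h : Two X o a b c d) (hodd : Odd (Fintype.card Ω - 3))
    (hR : InOrbit X o a b c x y z t) : InOrbit X o a b c x z y t := by
  obtain ⟨g, rfl, rfl, rfl, rfl⟩ := hR
  exact (h.perm_base hodd h.ob h.ab.symm h.oa (fun _ h1 h2 h3 => ⟨h1, h3, h2⟩)
    (fun w => by tauto)).smul g

open Classical in
/-- In-degree equals out-degree. -/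
theorem Two.card_in (h : Two X o a b c d) :
    (Finset.univ.filter fun w => InOrbit X o a b c o a w b).card =
      (Finset.univ.filter fun w => InOrbit X o a b c o a b w).card := by
  let Δ : Finset Ω := Finset.univ.filter fun w => w ≠ o ∧ w ≠ a
  let F : Ω → ℕ := fun v => (Finset.univ.filter fun w => InOrbit X o a b c o a w v).card
  let G : Ω → ℕ := fun v => (Finset.univ.filter fun w => InOrbit X o a b c o a v w).card
  have hF : ∀ v ∈ Δ, F v = F b := by
    intro v hv
    simp only [Δ, Finset.mem_filter, Finset.mem_univ, true_and] at hv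
    obtain ⟨g, go, ga, gb⟩ := h.three h.oa hv.2.symm hv.1.symm
    refine (Finset.card_equiv (MulAction.toPerm g) fun w => ?_).symm
    simp only [Finset.mem_filter, Finset.mem_univ, true_and, MulAction.toPerm_apply]
    have := inOrbit_smul_iff (o := o) (a := a) (b := b) (c := c) (x := o) (y := a) (z := w) (t := b) g
    rw [go, ga, gb] at this
    exact this.symm
  have hG : ∀ v ∈ Δ, G v = G b := by
    intro v hv
    simp only [Δ, Finset.mem_filter, Finset.mem_univ, true_and] at hv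
    exact h.card_eq h.oa hv.2.symm hv.1.symm
  have hF0 : ∑ v, F v = Δ.card * F b := by
    rw [← Finset.sum_subset (Finset.subset_univ Δ), Finset.sum_congr rfl hF, Finset.sum_const,
      smul_eq_mul]
    intro v _ hv
    simp only [Δ, Finset.mem_filter, Finset.mem_univ, true_and] at hv
    refine Finset.card_eq_zero.2 (Finset.filter_eq_empty_iff.2 fun w _ hw => hv ?_)
    exact ⟨(h.ne hw).2.2.1.symm, (h.ne hw).2.2.2.2.1.symm⟩
  have hG0 : ∑ v, G v = Δ.card * G b := by
    rw [← Finset.sum_subset (Finset.subset_univ Δ), Finset.sum_congr rfl hG, Finset.sum_const,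
      smul_eq_mul]
    intro v _ hv
    simp only [Δ, Finset.mem_filter, Finset.mem_univ, true_and] at hv
    refine Finset.card_eq_zero.2 (Finset.filter_eq_empty_iff.2 fun w _ hw => hv ?_)
    exact ⟨(h.ne hw).2.1.symm, (h.ne hw).2.2.2.1.symm⟩
  have hcomm : ∑ v, F v = ∑ v, G v := by
    simp only [F, G, Finset.card_filter]
    exact Finset.sum_comm
  rw [hF0, hG0] at hcomm
  refine Nat.eq_of_mul_eq_mul_left (Finset.card_pos.2 ⟨b, ?_⟩) hcomm
  simp [Δ, h.ob.symm, h.ab.symm]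

open Classical in
theorem Two.swap34 (h : Two X o a b c d) (hodd : Odd (Fintype.card Ω - 3))
    (hR : InOrbit X o a b c x y z t) : InOrbit X o a b c x y t z := by
  obtain ⟨g, rfl, rfl, rfl, rfl⟩ := hR
  suffices InOrbit X o a b c o a c b from this.smul g
  have hV : ∀ w, InOrbit X o a b c o a w b → w ≠ o ∧ w ≠ a ∧ w ≠ b := fun w hw => by
    obtain ⟨-, h1, -, h2, -, h3⟩ := h.ne hw
    exact ⟨h1.symm, h2.symm, h3⟩
  have hU : ∀ w, InOrbit X o a b c o a b w → w ≠ o ∧ w ≠ a ∧ w ≠ b := fun w hw => by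
    obtain ⟨-, -, h1, -, h2, h3⟩ := h.ne hw
    exact ⟨h1.symm, h2.symm, h3.symm⟩
  have hV1 : ∃ w, (w ≠ o ∧ w ≠ a ∧ w ≠ b) ∧ InOrbit X o a b c o a w b := by
    by_contra hn
    have h0 : (Finset.univ.filter fun w => InOrbit X o a b c o a w b).card = 0 :=
      Finset.card_eq_zero.2 (Finset.filter_eq_empty_iff.2 fun w _ hw => hn ⟨w, hV w hw, hw⟩)
    rw [h.card_in, Finset.card_eq_zero, Finset.filter_eq_empty_iff] at h0
    exact h0 (Finset.mem_univ c) h.base
  have hV0 : ∃ w, (w ≠ o ∧ w ≠ a ∧ w ≠ b) ∧ ¬ InOrbit X o a b c o a w b := by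
    by_contra hn
    push Not at hn
    have hlt : (Finset.univ.filter fun w => InOrbit X o a b c o a b w).card <
        (Finset.univ.filter fun w => w ≠ o ∧ w ≠ a ∧ w ≠ b).card := by
      refine Finset.card_lt_card (Finset.ssubset_iff_of_subset ?_ |>.2 ⟨d, ?_, ?_⟩)
      · exact Finset.monotone_filter_right _ fun w _ => hU w
      · simpa using h.dmem
      · simpa using h.notMem
    rw [← h.card_in] at hlt
    exact hlt.not_ge (Finset.card_le_card (Finset.monotone_filter_right _ fun w _ => hn w))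
  have hiff := iff_or_iff_not (P := fun w => w ≠ o ∧ w ≠ a ∧ w ≠ b)
    (S := fun g : X => g • o = o ∧ g • a = a ∧ g • b = b)
    (U := fun w => InOrbit X o a b c o a b w) (V := fun w => InOrbit X o a b c o a w b)
    (fun w hw => (h.cover w hw.1 hw.2.1 hw.2.2).imp fun k hk => ⟨⟨hk.1, hk.2.1, hk.2.2.1⟩, hk.2.2.2⟩)
    (fun k hk w => inOrbit_fix k hk.1 hk.2.1 hk.2.2 w)
    (fun k hk w => inOrbit_fix_third k hk.1 hk.2.1 hk.2.2 w)
    ⟨c, ⟨h.co, h.ca, h.cb⟩, h.base⟩ ⟨d, h.dmem, h.notMem⟩ hV1 hV0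
  rcases hiff with heq | hne
  · exact (heq c ⟨h.co, h.ca, h.cb⟩).1 h.base
  · exact (h.not_compl hodd hU hV h.card_in.symm hne).elim

end Cfsg.Agent.Grp.HalfNormalizer
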