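import Cfsg.Agent.Lib.Grp.HalfNormalizer.Stabilizer
import Cfsg.Agent.Lib.Grp.HalfNormalizer.Quads
import Cfsg.Agent.Lib.Grp.HalfNormalizer.Dihedral

/-!
An even proper overgroup of the projective special linear group on the projective line is
fourfold transitive.
-/

set_option autoImplicit false

namespace Cfsg.Agent.Grp.HalfNormalizer

open MulAction

variable {p : ℕ} [hp : Fact p.Prime] {X Ω : Type*} [Group X] [MulAction X Ω]
  {ψ : Matrix.SpecialLinearGroup (Fin 2) (ZMod p) →* X} {o : Ω} {ρ : ZMod p → Ω}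

/-- The squares among the units. -/
abbrev Sq (p : ℕ) : Subgroup (ZMod p)ˣ := (powMonoidHom 2 : (ZMod p)ˣ →* (ZMod p)ˣ).range

theorem isSquare_sq (s : Sq p) : IsSquare (((s : (ZMod p)ˣ) : ZMod p)) := by
  obtain ⟨u, hu⟩ := s.2
  exact ⟨u, by rw [← hu, powMonoidHom_apply, sq, Units.val_mul]⟩

theorem mem_sq {z : (ZMod p)ˣ} (hz : IsSquare (z : ZMod p)) : z ∈ Sq p := by
  obtain ⟨r, hr⟩ := hz
  have hr0 : r ≠ 0 := fun e => z.ne_zero (by rw [hr, e, mul_zero])
  exact ⟨Units.mk0 r hr0, Units.ext (by rw [powMonoidHom_apply, sq, Units.val_mul, Units.val_mk0, hr])⟩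

theorem odd_card_sq (hneg : ¬ IsSquare (-1 : ZMod p)) : Odd (Nat.card (Sq p)) := by
  rw [← Nat.not_even_iff_odd, even_iff_two_dvd]
  intro h
  obtain ⟨s, hs⟩ := exists_prime_orderOf_dvd_card' 2 h
  have h1 : (s : (ZMod p)ˣ) ^ 2 = 1 := by
    rw [← SubmonoidClass.coe_pow, ← hs, pow_orderOf_eq_one, OneMemClass.coe_one]
  have h2 : ((s : (ZMod p)ˣ) : ZMod p) ^ 2 = 1 := by rw [← Units.val_pow_eq_pow_val, h1, Units.val_one]
  rcases sq_eq_one_iff.1 h2 with h3 | h3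
  · rw [show s = 1 from Subtype.ext (Units.ext h3), orderOf_one] at hs
    omega
  · exact hneg (h3 ▸ isSquare_sq s)

theorem neg_sq_ne (hneg : ¬ IsSquare (-1 : ZMod p)) (s t : Sq p) :
    -((s : (ZMod p)ˣ) : ZMod p) ≠ ((t : (ZMod p)ˣ) : ZMod p) := by
  intro e
  have h2 := isSquare_sq t
  rw [← e, ← neg_one_mul, isSquare_mul_iff (neg_ne_zero.2 one_ne_zero) (Units.ne_zero _)] at h2
  exact hneg (h2.2 (isSquare_sq s))

variable [Fintype Ω] [DecidableEq Ω]

theorem Coords.sum_others (h : Coords ψ o ρ) (hneg : ¬ IsSquare (-1 : ZMod p)) [Fintype (Sq p)]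
    (F : Ω → ℤ) (hFo : F o = 0) (hF0 : F (ρ 0) = 0) :
    ∑ b, F b = ∑ s : Sq p, F (ρ ((s : (ZMod p)ˣ) : ZMod p)) +
      ∑ s : Sq p, F (ρ (-((s : (ZMod p)ˣ) : ZMod p))) := by
  classical
  let j : Sq p ⊕ Sq p → Ω := Sum.elim (fun s => ρ ((s : (ZMod p)ˣ) : ZMod p))
    fun s => ρ (-((s : (ZMod p)ˣ) : ZMod p))
  have hj : Function.Injective j := by
    rintro (s | s) (t | t) e <;> simp only [j, Sum.elim_inl, Sum.elim_inr] at e
    · rw [Subtype.ext (Units.ext (h.inj e))]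
    · exact absurd (h.inj e).symm (neg_sq_ne hneg t s)
    · exact absurd (h.inj e) (neg_sq_ne hneg s t)
    · rw [Subtype.ext (Units.ext (neg_injective (h.inj e)))]
  rw [← Finset.sum_subset (Finset.subset_univ (Finset.univ.image j)) fun b _ hb => ?_,
    Finset.sum_image fun x _ y _ e => hj e, Fintype.sum_sum_type]
  · simp [j]
  by_cases hbo : b = o
  · rw [hbo, hFo]
  obtain ⟨z, rfl⟩ := h.surj b hbo
  by_cases hz : z = 0
  · rw [hz, hF0]
  exfalso
  apply hb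
  simp only [Finset.mem_image, Finset.mem_univ, true_and]
  by_cases hs : IsSquare z
  · exact ⟨Sum.inl ⟨Units.mk0 z hz, mem_sq hs⟩, rfl⟩
  · exact ⟨Sum.inr ⟨Units.mk0 (-z) (neg_ne_zero.2 hz), mem_sq (isSquare_neg hneg hz hs)⟩,
      by simp [j]⟩

open Classical in
/-- The number of common neighbours of `ρ 1` and another point. -/
noncomputable def common (X : Type*) {Ω : Type*} [Group X] [MulAction X Ω] [Fintype Ω]
    (o a b c w : Ω) : ℕ :=
  (Finset.univ.filter fun t => InOrbit X o a b c o a b t ∧ InOrbit X o a b c o a w t).card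

variable [Finite X] [FaithfulSMul X Ω]

open Classical in
/-- The graph at two points is imprimitive. -/
theorem Coords.imprimitive (h : Coords ψ o ρ) (hneg : ¬ IsSquare (-1 : ZMod p)) {c d : Ω}
    (h2 : Two X o (ρ 0) (ρ 1) c d) (hodd : Odd (Fintype.card Ω - 3)) :
    common X o (ρ 0) (ρ 1) c d = 0 ∨
      common X o (ρ 0) (ρ 1) c d =
        (Finset.univ.filter fun w => InOrbit X o (ρ 0) (ρ 1) c o (ρ 0) (ρ 1) w).card ∨
      common X o (ρ 0) (ρ 1) c c + 1 =
        (Finset.univ.filter fun w => InOrbit X o (ρ 0) (ρ 1) c o (ρ 0) (ρ 1) w).card := by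
  have : Fintype (Sq p) := Fintype.ofFinite _
  have hm : Odd (Fintype.card (Sq p)) := by
    rw [← Nat.card_eq_fintype_card]
    exact odd_card_sq hneg
  let E : ZMod p → ZMod p → Prop := fun z w => InOrbit X o (ρ 0) (ρ 1) c o (ρ 0) (ρ z) (ρ w)
  let χ : Prop → ℤ := fun P => if P then 1 else 0
  have hEsymm : ∀ z w, E z w ↔ E w z := fun z w => ⟨h2.swap34 hodd, h2.swap34 hodd⟩
  have hscale' : ∀ (s : Sq p) (z w : ZMod p), E z w →
      E (((s : (ZMod p)ˣ) : ZMod p) * z) (((s : (ZMod p)ˣ) : ZMod p) * w) := by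
    intro s z w hE
    obtain ⟨u, hu⟩ := s.2
    have h1 := hE.smul (ψ (dMat u))
    rw [h.d_fix, h.d_smul, h.d_smul, h.d_smul, mul_zero, ← Units.val_mul, ← sq,
      ← powMonoidHom_apply, hu] at h1
    exact h1
  have hscale : ∀ (s : Sq p) (z w : ZMod p), E z w ↔
      E (((s : (ZMod p)ˣ) : ZMod p) * z) (((s : (ZMod p)ˣ) : ZMod p) * w) := fun s z w =>
    ⟨hscale' s z w, fun hE => by
      have h1 := hscale' s⁻¹ _ _ hE
      rwa [← mul_assoc, ← mul_assoc, Subgroup.coe_inv, Units.inv_mul, one_mul, one_mul] at h1⟩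
  have hiota' : ∀ u v : (ZMod p)ˣ, E u v →
      E (-((u⁻¹ : (ZMod p)ˣ) : ZMod p)) (-((v⁻¹ : (ZMod p)ˣ) : ZMod p)) := by
    intro u v hE
    have h1 := hE.smul (ψ wMat)
    rw [h.w_fix, h.w_zero, h.w_smul, h.w_smul] at h1
    exact h2.swap12 hodd h1
  have hiota : ∀ u v : (ZMod p)ˣ, E u v ↔
      E (-((u⁻¹ : (ZMod p)ˣ) : ZMod p)) (-((v⁻¹ : (ZMod p)ˣ) : ZMod p)) := fun u v =>
    ⟨hiota' u v, fun hE => by
      have h1 := hiota' (-u⁻¹) (-v⁻¹) (by simpa only [Units.val_neg] using hE)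
      simpa only [inv_neg, inv_inv, Units.val_neg, neg_neg] using h1⟩
  let A₀ : Sq p → ℤ := fun s => χ (E 1 ((s : (ZMod p)ˣ) : ZMod p))
  let A₁ : Sq p → ℤ := fun s => χ (E 1 (-((s : (ZMod p)ˣ) : ZMod p)))
  have h0 : ∀ s, A₀ s = 0 ∨ A₀ s = 1 := fun s => by
    simp only [A₀, χ]; split_ifs <;> simp
  have h1 : ∀ s, A₁ s = 0 ∨ A₁ s = 1 := fun s => by
    simp only [A₁, χ]; split_ifs <;> simp
  have hone : A₀ 1 = 0 := by
    refine if_neg fun hE => ?_
    exact (h2.ne hE).2.2.2.2.2 (by simp)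
  have hχ : ∀ {P R : Prop}, (P ↔ R) → χ P = χ R := fun hPR => by rw [propext hPR]
  have hsymm : ∀ s, A₀ s⁻¹ = A₀ s := by
    intro s
    refine hχ ?_
    rw [hscale s, mul_one, Subgroup.coe_inv, Units.mul_inv]
    exact hEsymm _ _
  have hne0 : ∀ {z w : ZMod p}, E z w → z ≠ 0 ∧ w ≠ 0 := fun hE =>
    ⟨fun e => (h2.ne hE).2.2.2.1 (by rw [e]), fun e => (h2.ne hE).2.2.2.2.1 (by rw [e])⟩
  have hcount : ∀ P : Ω → Prop, ¬ P o → ¬ P (ρ 0) → ((Finset.univ.filter P).card : ℤ) =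
      ∑ s : Sq p, χ (P (ρ ((s : (ZMod p)ˣ) : ZMod p))) +
        ∑ s : Sq p, χ (P (ρ (-((s : (ZMod p)ˣ) : ZMod p)))) := by
    intro P hPo hP0
    rw [← h.sum_others hneg (fun b => χ (P b)) (if_neg hPo) (if_neg hP0), Finset.card_filter]
    push_cast
    exact Finset.sum_congr rfl fun b _ => by simp only [χ]
  have ha : ((Finset.univ.filter fun w => InOrbit X o (ρ 0) (ρ 1) c o (ρ 0) (ρ 1) w).card : ℤ) =
      ∑ t, A₀ t + ∑ t, A₁ t :=
    hcount _ (fun hh => (h2.ne hh).2.2.1 rfl) (fun hh => (h2.ne hh).2.2.2.2.1 rfl)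
  have hcommon : ∀ z : ZMod p, (common X o (ρ 0) (ρ 1) c (ρ z) : ℤ) =
      ∑ t : Sq p, A₀ t * χ (E z ((t : (ZMod p)ˣ) : ZMod p)) +
        ∑ t : Sq p, A₁ t * χ (E z (-((t : (ZMod p)ˣ) : ZMod p))) := by
    intro z
    have hand : ∀ P R : Prop, χ (P ∧ R) = χ P * χ R := fun P R => by
      by_cases hP : P <;> by_cases hR : R <;> simp [χ, hP, hR]
    have e := hcount (fun t => InOrbit X o (ρ 0) (ρ 1) c o (ρ 0) (ρ 1) t ∧
      InOrbit X o (ρ 0) (ρ 1) c o (ρ 0) (ρ z) t)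
      (fun hh => (h2.ne hh.1).2.2.1 rfl) (fun hh => (h2.ne hh.1).2.2.2.2.1 rfl)
    simp only [hand] at e
    refine Eq.trans ?_ (e.trans rfl)
    unfold common
    congr!
  have hvalue : ∀ w : Ω, w ≠ o → w ≠ ρ 0 → w ≠ ρ 1 → (common X o (ρ 0) (ρ 1) c w : ℤ) =
      (common X o (ρ 0) (ρ 1) c c : ℤ) * χ (InOrbit X o (ρ 0) (ρ 1) c o (ρ 0) (ρ 1) w) +
        (common X o (ρ 0) (ρ 1) c d : ℤ) *
          (1 - χ (InOrbit X o (ρ 0) (ρ 1) c o (ρ 0) (ρ 1) w)) := by
    intro w hwo hwa hwb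
    have hmove : ∀ (g : X), g • o = o → g • ρ 0 = ρ 0 → g • ρ 1 = ρ 1 → ∀ v,
        common X o (ρ 0) (ρ 1) c (g • v) = common X o (ρ 0) (ρ 1) c v := by
      intro g go ga gb v
      refine (Finset.card_equiv (MulAction.toPerm g) fun t => ?_).symm
      simp only [Finset.mem_filter, Finset.mem_univ, true_and, MulAction.toPerm_apply]
      rw [inOrbit_fix g go ga gb t]
      have := inOrbit_smul_iff (o := o) (a := ρ 0) (b := ρ 1) (c := c) (x := o) (y := ρ 0) (z := v)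
        (t := t) g
      rw [go, ga] at this
      rw [this]
    obtain ⟨g, go, ga, gb, rfl | rfl⟩ := h2.cover w hwo hwa hwb
    · simp only [χ, if_pos ((inOrbit_fix g go ga gb c).2 h2.base), hmove g go ga gb]
      ring
    · simp only [χ, if_neg fun hh => h2.notMem ((inOrbit_fix g go ga gb d).1 hh), hmove g go ga gb]
      ring
  have hval' : ∀ z : ZMod p, z ≠ 0 → z ≠ 1 → (common X o (ρ 0) (ρ 1) c (ρ z) : ℤ) =
      (common X o (ρ 0) (ρ 1) c c : ℤ) * χ (E 1 z) +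
        (common X o (ρ 0) (ρ 1) c d : ℤ) * (1 - χ (E 1 z)) :=
    fun z hz hz1 => hvalue _ (h.ne z) (h.inj.ne hz) (h.inj.ne hz1)
  have key := srg_dihedral hm A₀ A₁ h0 h1 hone hsymm
    ((Finset.univ.filter fun w => InOrbit X o (ρ 0) (ρ 1) c o (ρ 0) (ρ 1) w).card : ℤ)
    (common X o (ρ 0) (ρ 1) c c : ℤ) (common X o (ρ 0) (ρ 1) c d : ℤ) ha ?_ ?_
  · rcases key with k | k | k
    · exact Or.inl (by exact_mod_cast k)
    · exact Or.inr (Or.inl (by exact_mod_cast k))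
    · exact Or.inr (Or.inr (by omega))
  · intro s hs
    have hs1 : ((s : (ZMod p)ˣ) : ZMod p) ≠ 1 := fun e => hs (Subtype.ext (Units.ext e))
    rw [← hval' _ (Units.ne_zero _) hs1, hcommon]
    congr 1 <;> refine Finset.sum_congr rfl fun t _ => ?_ <;> congr 1
    · rw [← hsymm (t⁻¹ * s), mul_inv_rev, inv_inv]
      refine hχ ?_
      rw [hscale s 1, mul_one]
      simp only [Subgroup.coe_mul, Subgroup.coe_inv, Units.val_mul, Units.mul_inv_cancel_left]
    · refine hχ ?_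
      rw [hscale s 1, mul_one]
      simp only [Subgroup.coe_mul, Subgroup.coe_inv, Units.val_mul, mul_neg,
        Units.mul_inv_cancel_left]
  · intro s
    have hs1 : -((s : (ZMod p)ˣ) : ZMod p) ≠ 1 := by
      simpa using neg_sq_ne hneg s 1
    rw [← hval' _ (neg_ne_zero.2 (Units.ne_zero _)) hs1, hcommon, two_mul]
    congr 1
    · refine Finset.sum_congr rfl fun t _ => ?_
      congr 1
      refine hχ ?_
      have e1 := hiota (-(s : (ZMod p)ˣ)) t
      simp only [Units.val_neg, inv_neg, neg_neg] at e1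
      rw [e1, hscale s (((s : (ZMod p)ˣ)⁻¹ : (ZMod p)ˣ) : ZMod p), Units.mul_inv]
      simp only [Subgroup.coe_mul, Subgroup.coe_inv, Units.val_mul, mul_neg, mul_comm]
    · refine Fintype.sum_equiv ((Equiv.inv (Sq p)).trans (Equiv.mulRight s)) _ _ fun t => ?_
      simp only [Equiv.trans_apply, Equiv.inv_apply, Equiv.coe_mulRight, mul_inv_rev, inv_inv]
      rw [mul_comm (A₀ _) (A₁ _)]
      congr 1
      refine hχ ?_
      have e1 := hiota (-(s : (ZMod p)ˣ)) (-(((t⁻¹ * s : Sq p)) : (ZMod p)ˣ))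
      simp only [Units.val_neg, inv_neg, neg_neg] at e1
      rw [e1, hscale s (((s : (ZMod p)ˣ)⁻¹ : (ZMod p)ˣ) : ZMod p), Units.mul_inv]
      simp only [Subgroup.coe_mul, Subgroup.coe_inv, mul_inv_rev, inv_inv, Units.val_mul,
        Units.mul_inv_cancel_left]

open Classical in
/-- In the two-orbit case there is a forbidden system of lines. -/
theorem Coords.two_false (h : Coords ψ o ρ) (hY : Hyp (stabilizer X o) (SubMulAction.ofStabilizer X o) p)
    [FaithfulSMul (stabilizer X o) (SubMulAction.ofStabilizer X o)]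
    (hp7 : 7 < p) (hneg : ¬ IsSquare (-1 : ZMod p)) {c d : Ω}
    (h2 : Two X o (ρ 0) (ρ 1) c d) (hodd : Odd (Fintype.card Ω - 3)) : False := by
  set a := ρ 0
  set b := ρ 1
  let Nb : Ω → Finset Ω := fun z => Finset.univ.filter fun t => InOrbit X o a b c o a z t
  have hNb : ∀ z, z ≠ o → z ≠ a → (Nb z).card = (Nb b).card := fun z hzo hza =>
    h2.card_eq h2.oa hza.symm hzo.symm
  have hint : ∀ w, common X o a b c w = (Nb b ∩ Nb w).card := fun w => by
    rw [common]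
    congr 1
    ext t
    simp [Nb]
  have hmove : ∀ (g : X), g • o = o → g • a = a → g • b = b → ∀ v,
      common X o a b c (g • v) = common X o a b c v := by
    intro g go ga gb v
    refine (Finset.card_equiv (MulAction.toPerm g) fun t => ?_).symm
    simp only [Finset.mem_filter, Finset.mem_univ, true_and, MulAction.toPerm_apply]
    rw [inOrbit_fix g go ga gb t]
    have := inOrbit_smul_iff (o := o) (a := a) (b := b) (c := c) (x := o) (y := a) (z := v)
      (t := t) g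
    rw [go, ga] at this
    rw [this]
  have hvalc : ∀ z, InOrbit X o a b c o a b z → common X o a b c z = common X o a b c c := by
    intro z hz
    obtain ⟨g, go, ga, gb, rfl⟩ := hz
    exact hmove g go ga gb c
  have hvald : ∀ z, z ≠ o → z ≠ a → z ≠ b → ¬ InOrbit X o a b c o a b z →
      common X o a b c z = common X o a b c d := by
    intro z hzo hza hzb hz
    obtain ⟨g, go, ga, gb, rfl | rfl⟩ := h2.cover z hzo hza hzb
    · exact absurd ⟨g, go, ga, gb, rfl⟩ hz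
    · exact hmove g go ga gb d
  -- a transitive relation gives lines
  have lines : ∀ T : Ω → Ω → Ω → Prop,
      (∀ (g : X) x y z, g • o = o → (T (g • x) (g • y) (g • z) ↔ T x y z)) →
      (∀ {x y z}, T x y z → x ≠ y ∧ y ≠ z ∧ x ≠ z) → (∀ {x y z}, T x y z → T x z y) →
      (∀ z w, z ≠ o → w ≠ o → T a b z → T a b w → z ≠ w → T a z w) →
      (∃ z, z ≠ o ∧ T a b z) → (∃ z, z ≠ o ∧ z ≠ a ∧ z ≠ b ∧ ¬ T a b z) → False := by
    intro T hTinv hTne hTsymm htr ⟨z₁, hz₁o, hz₁⟩ ⟨z₂, hz₂o, hz₂a, hz₂b, hz₂⟩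
    refine hY.no_lines hp7 (fun x y z => T (x : Ω) (y : Ω) (z : Ω)) (fun {x y z} hT => ?_) (fun g x y z hT => ?_)
      (fun {x y z} hT => hTsymm hT) (fun {x y z w} hxyz hxyw hzw => ?_)
      ⟨⟨a, h.ne 0⟩, ⟨b, h.ne 1⟩, ⟨z₁, hz₁o⟩, hz₁⟩
      ⟨⟨a, h.ne 0⟩, ⟨b, h.ne 1⟩, ⟨z₂, hz₂o⟩, fun e => h2.ab (congrArg Subtype.val e),
        fun e => hz₂b (congrArg Subtype.val e).symm, fun e => hz₂a (congrArg Subtype.val e).symm, hz₂⟩
    · obtain ⟨h1, h2, h3⟩ := hTne hT
      exact ⟨fun e => h1 (congrArg Subtype.val e), fun e => h2 (congrArg Subtype.val e),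
        fun e => h3 (congrArg Subtype.val e)⟩
    · exact (hTinv (g : X) x y z g.2).2 hT
    · obtain ⟨g, go, ga, gb⟩ := h2.three (x := o) (y := (x : Ω)) (z := (y : Ω)) (Ne.symm x.2)
        (hTne hxyz).1 (Ne.symm y.2)
      have gi : g⁻¹ • o = o := inv_smul_eq_iff.2 go.symm
      have hpull : ∀ v : Ω, T (x : Ω) (y : Ω) v → T a b (g⁻¹ • v) := fun v hv => by
        have := (hTinv g⁻¹ (x : Ω) (y : Ω) v gi).2 hv
        rwa [inv_smul_eq_iff.2 ga.symm, inv_smul_eq_iff.2 gb.symm] at this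
      have hone : ∀ v : Ω, v ≠ o → g⁻¹ • v ≠ o := fun v hv e => hv (by
        rw [inv_smul_eq_iff, go] at e; exact e)
      have h1 := htr _ _ (hone _ z.2) (hone _ w.2) (hpull _ hxyz) (hpull _ hxyw)
        fun e => hzw (Subtype.ext (MulAction.injective g⁻¹ e))
      have h2 := (hTinv g a (g⁻¹ • (z : Ω)) (g⁻¹ • (w : Ω)) go).2 h1
      rwa [ga, smul_inv_smul, smul_inv_smul] at h2
  have hRinv : ∀ (g : X) x y z, g • o = o →
      (InOrbit X o a b c o (g • x) (g • y) (g • z) ↔ InOrbit X o a b c o x y z) := by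
    intro g x y z go
    have := inOrbit_smul_iff (o := o) (a := a) (b := b) (c := c) (x := o) (y := x) (z := y) (t := z) g
    rwa [go] at this
  have hlinesR : (∀ z w, InOrbit X o a b c o a b z → InOrbit X o a b c o a b w → z ≠ w →
      InOrbit X o a b c o a z w) → False := fun htr =>
    lines (fun x y z => InOrbit X o a b c o x y z) hRinv
      (fun hT => ⟨(h2.ne hT).2.2.2.1, (h2.ne hT).2.2.2.2.2, (h2.ne hT).2.2.2.2.1⟩)
      (fun hT => h2.swap34 hodd hT) (fun z w _ _ => htr z w)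
      ⟨c, h2.co, h2.base⟩ ⟨d, h2.dmem.1, h2.dmem.2.1, h2.dmem.2.2, h2.notMem⟩
  rcases h.imprimitive hneg h2 hodd with k | k | k
  · refine hlinesR fun z w hz hw hzw => ?_
    by_contra hn
    obtain ⟨-, -, hzo, -, hza, hzb⟩ := h2.ne hz
    obtain ⟨-, -, hwo, -, hwa, hwb⟩ := h2.ne hw
    obtain ⟨g, go, ga, gz⟩ := h2.three h2.oa hza hzo
    have gi : g⁻¹ • o = o := inv_smul_eq_iff.2 go.symm
    have gia : g⁻¹ • a = a := inv_smul_eq_iff.2 ga.symm
    have giz : g⁻¹ • z = b := inv_smul_eq_iff.2 gz.symm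
    have hzero := hvald (g⁻¹ • w)
      (fun e => hwo (MulAction.injective g⁻¹ (gi.trans e.symm)))
      (fun e => hwa (MulAction.injective g⁻¹ (gia.trans e.symm)))
      (fun e => hzw (MulAction.injective g⁻¹ (giz.trans e.symm)))
      (fun hh => hn (by
        have := (hRinv g a b (g⁻¹ • w) go).2 hh
        rwa [ga, gz, smul_inv_smul] at this))
    rw [hint] at hzero
    have hmem : g⁻¹ • b ∈ Nb b ∩ Nb (g⁻¹ • w) := by
      simp only [Finset.mem_inter, Nb, Finset.mem_filter, Finset.mem_univ, true_and]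
      refine ⟨?_, ?_⟩
      · have := (hRinv g⁻¹ a z b gi).2 (h2.swap34 hodd hz)
        rwa [gia, giz] at this
      · have := (hRinv g⁻¹ a w b gi).2 (h2.swap34 hodd hw)
        rwa [gia] at this
    exact Finset.card_ne_zero_of_mem hmem (hzero.trans k)
  · refine lines (fun x y z => (x ≠ y ∧ y ≠ z ∧ x ≠ z) ∧ ¬ InOrbit X o a b c o x y z)
      (fun g x y z go => by simp only [hRinv g x y z go, Ne, smul_left_cancel_iff])
      (fun hT => hT.1) (fun {x y z} hT => ⟨⟨hT.1.2.2, hT.1.2.1.symm, hT.1.1⟩,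
        fun hh => hT.2 (h2.swap34 hodd hh)⟩) (fun z w hzo hwo hz hw hzw => ?_)
      ⟨d, h2.dmem.1, ⟨h2.ab, h2.dmem.2.2.symm, h2.dmem.2.1.symm⟩, h2.notMem⟩
      ⟨c, h2.co, h2.ca, h2.cb, fun hh => hh.2 h2.base⟩
    refine ⟨⟨hz.1.2.2, hzw, hw.1.2.2⟩, fun hn => hw.2 ?_⟩
    have h3 := hvald z hzo hz.1.2.2.symm hz.1.2.1.symm hz.2
    rw [hint] at h3
    have hsub : Nb b ⊆ Nb z := by
      rw [← Finset.inter_eq_left]
      exact Finset.eq_of_subset_of_card_le Finset.inter_subset_left (by rw [h3, k])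
    have heq : Nb b = Nb z :=
      Finset.eq_of_subset_of_card_le hsub (hNb z hzo hz.1.2.2.symm).le
    have : w ∈ Nb b := heq ▸ (by simp [Nb, hn])
    simpa [Nb] using this
  · refine hlinesR fun z w hz hw hzw => ?_
    have hlam := hvalc z hz
    rw [hint] at hlam
    have hsub : Nb b ∩ Nb z ⊆ (Nb b).erase z := fun t ht => by
      simp only [Finset.mem_inter, Nb, Finset.mem_filter, Finset.mem_univ, true_and] at ht
      exact Finset.mem_erase.2 ⟨(h2.ne ht.2).2.2.2.2.2.symm, by simp [Nb, ht.1]⟩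
    have hzmem : z ∈ Nb b := by simp [Nb, hz]
    have heq := Finset.eq_of_subset_of_card_le hsub (by
      have k' : common X o a b c c + 1 = (Nb b).card := k
      rw [Finset.card_erase_of_mem hzmem, hlam]
      omega)
    have : w ∈ Nb b ∩ Nb z := heq ▸ Finset.mem_erase.2 ⟨hzw.symm, by simp [Nb, hw]⟩
    simp only [Finset.mem_inter, Nb, Finset.mem_filter, Finset.mem_univ, true_and] at this
    exact this.2

/-- An even proper overgroup is fourfold transitive. -/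
theorem Coords.four (h : Coords ψ o ρ) (hp7 : 7 < p) (hΩ : Fintype.card Ω = p + 1)
    (heven : ∀ x : X, Equiv.Perm.sign (MulAction.toPerm x : Equiv.Perm Ω) = 1)
    (hne : ψ.range ≠ ⊤) : IsMultiplyPretransitive X Ω 4 := by
  have := h.pretransitive
  obtain ⟨hY, hYf⟩ := h.hyp hΩ heven hne
  rw [show (4 : ℕ) = (3 : ℕ).succ from rfl, SubMulAction.ofStabilizer.isMultiplyPretransitive (a := o)]
  by_cases hs : IsSquare (-1 : ZMod p)
  · exact hY.three_of_neg_one hs (by omega)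
  refine hY.dichotomy.resolve_right fun h4 => ?_
  obtain ⟨c, d, hca, hcb, hda, hdb, hsep, hcov⟩ :=
    h4 ⟨ρ 0, h.ne 0⟩ ⟨ρ 1, h.ne 1⟩ fun e => zero_ne_one (h.inj (congrArg Subtype.val e))
  have ne' : ∀ {u v : SubMulAction.ofStabilizer X o}, u ≠ v → (u : Ω) ≠ (v : Ω) :=
    fun huv e => huv (Subtype.ext e)
  have hodd : Odd (Fintype.card Ω - 3) := by
    rw [hΩ, Nat.odd_iff]
    have := hp.out.eq_two_or_odd
    omega
  refine h.two_false hY hp7 hs (c := (c : Ω)) (d := (d : Ω)) ⟨(h.ne 0).symm,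
    h.inj.ne zero_ne_one, (h.ne 1).symm, c.2, ne' hca, ne' hcb, ⟨d.2, ne' hda, ne' hdb⟩, ?_, ?_, ?_⟩
    hodd
  · intro x y z hxy hyz hxz
    obtain ⟨g, hg⟩ := MulAction.exists_smul_eq X o x
    have hmem : ∀ v : Ω, x ≠ v → g⁻¹ • v ≠ o := fun v hv e => hv (by
      rw [inv_smul_eq_iff, hg] at e; exact e.symm)
    obtain ⟨k, hk0, hk1⟩ := hY.two (a := ⟨ρ 0, h.ne 0⟩) (b := ⟨ρ 1, h.ne 1⟩)
      (c := ⟨g⁻¹ • y, hmem y hxy⟩) (d := ⟨g⁻¹ • z, hmem z hxz⟩)
      (fun e => zero_ne_one (h.inj (congrArg Subtype.val e)))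
      (fun e => hyz (MulAction.injective g⁻¹ (congrArg Subtype.val e)))
    refine ⟨g * k, ?_, ?_, ?_⟩
    · rw [mul_smul, k.2, hg]
    · rw [mul_smul, show (k : X) • ρ 0 = g⁻¹ • y from congrArg Subtype.val hk0, smul_inv_smul]
    · rw [mul_smul, show (k : X) • ρ 1 = g⁻¹ • z from congrArg Subtype.val hk1, smul_inv_smul]
  · intro g go ga gb e
    exact hsep ⟨g, go⟩ (Subtype.ext ga) (Subtype.ext gb) (Subtype.ext e)
  · intro w hwo hwa hwb
    obtain ⟨g, ga, gb, hg⟩ := hcov ⟨w, hwo⟩ (fun e => hwa (congrArg Subtype.val e))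
      fun e => hwb (congrArg Subtype.val e)
    exact ⟨g, g.2, congrArg Subtype.val ga, congrArg Subtype.val gb,
      hg.imp (congrArg Subtype.val) (congrArg Subtype.val)⟩

end Cfsg.Agent.Grp.HalfNormalizer
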