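import Mathlib

/-!
A symmetric family of lines on `ZMod p` invariant under translations and square multipliers consists
of the lines `{x, y, x + u * (y - x)}` for a sixth root of unity `u`; transitivity on the points
off a line is then impossible for `p > 7`.
-/

set_option autoImplicit false

namespace Cfsg.Agent.Grp.HalfNormalizer

variable {p : ℕ} [hp : Fact p.Prime]

/-- Collinearity of three distinct points. -/
structure Lines (T : ZMod p → ZMod p → ZMod p → Prop) : Prop where
  ne : ∀ {x y z}, T x y z → x ≠ y ∧ y ≠ z ∧ x ≠ z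
  symm₁ : ∀ {x y z}, T x y z → T y x z
  symm₂ : ∀ {x y z}, T x y z → T x z y
  trans : ∀ {x y z w}, T x y z → T x y w → z ≠ w → T x z w
  shift : ∀ (c : ZMod p) {x y z}, T x y z → T (x + c) (y + c) (z + c)
  scale : ∀ {u : ZMod p}, u ≠ 0 → ∀ {x y z}, T x y z → T (u * u * x) (u * u * y) (u * u * z)
  proper : ∃ z, z ≠ 0 ∧ z ≠ 1 ∧ ¬ T 0 1 z
  nonempty : ∃ z, T 0 1 z

variable {T : ZMod p → ZMod p → ZMod p → Prop}

/-- The line through two points. -/
def lineSet (T : ZMod p → ZMod p → ZMod p → Prop) (x y : ZMod p) : Set (ZMod p) :=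
  {z | z = x ∨ z = y ∨ T x y z}

/-- A finite submonoid of a group as a subgroup. -/
def finSubgroup {M : Type*} [Group M] [Finite M] (S : Submonoid M) : Subgroup M :=
  { S with
    inv_mem' := fun {a} ha => Submonoid.powers_le.2 ha
      (mem_powers_iff_mem_zpowers.2 (inv_mem (Subgroup.mem_zpowers a))) }

namespace Lines

variable (h : Lines T)

include h

theorem line_symm (x y : ZMod p) : lineSet T x y = lineSet T y x := by
  ext z
  exact ⟨fun hz => hz.elim (Or.inr ∘ Or.inl) fun hz => hz.elim Or.inl (Or.inr ∘ Or.inr ∘ h.symm₁),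
    fun hz => hz.elim (Or.inr ∘ Or.inl) fun hz => hz.elim Or.inl (Or.inr ∘ Or.inr ∘ h.symm₁)⟩

theorem line_eq {x y z : ZMod p} (hz : z ∈ lineSet T x y) (hzx : z ≠ x) :
    lineSet T x z = lineSet T x y := by
  rcases hz with rfl | rfl | hz
  · exact absurd rfl hzx
  · rfl
  ext w
  constructor
  · rintro (rfl | rfl | hw)
    · exact Or.inl rfl
    · exact Or.inr (Or.inr hz)
    · by_cases hwy : y = w
      · exact Or.inr (Or.inl hwy.symm)
      · exact Or.inr (Or.inr (h.trans (h.symm₂ hz) hw hwy))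
  · rintro (rfl | rfl | hw)
    · exact Or.inl rfl
    · exact Or.inr (Or.inr (h.symm₂ hz))
    · by_cases hwz : z = w
      · exact Or.inr (Or.inl hwz.symm)
      · exact Or.inr (Or.inr (h.trans hz hw hwz))

theorem mem_shift (c : ZMod p) {x y z : ZMod p} (hz : z ∈ lineSet T x y) :
    z + c ∈ lineSet T (x + c) (y + c) := by
  rcases hz with rfl | rfl | hz
  · exact Or.inl rfl
  · exact Or.inr (Or.inl rfl)
  · exact Or.inr (Or.inr (h.shift c hz))

theorem mem_scale {s : ZMod p} (hs : IsSquare s) (hs0 : s ≠ 0) {x y z : ZMod p}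
    (hz : z ∈ lineSet T x y) : s * z ∈ lineSet T (s * x) (s * y) := by
  obtain ⟨u, rfl⟩ := hs
  rcases hz with rfl | rfl | hz
  · exact Or.inl rfl
  · exact Or.inr (Or.inl rfl)
  · exact Or.inr (Or.inr (h.scale (fun e => hs0 (by rw [e, mul_zero])) hz))

theorem mem_scale_iff {s : ZMod p} (hs : IsSquare s) (hs0 : s ≠ 0) {x y z : ZMod p} :
    s * z ∈ lineSet T (s * x) (s * y) ↔ z ∈ lineSet T x y := by
  refine ⟨fun hz => ?_, h.mem_scale hs hs0⟩
  simpa [← mul_assoc, hs0] using h.mem_scale hs.inv (inv_ne_zero hs0) hz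

theorem not_translation {d : ZMod p} (hd : d ≠ 0)
    (hinv : ∀ z ∈ lineSet T 0 1, z + d ∈ lineSet T 0 1) : False := by
  have hn : ∀ n : ℕ, (n : ZMod p) * d ∈ lineSet T 0 1 := by
    intro n
    induction n with
    | zero => exact Or.inl (by simp)
    | succ n ih =>
      have := hinv _ ih
      rwa [Nat.cast_succ, add_mul, one_mul]
  obtain ⟨z, hz0, hz1, hz⟩ := h.proper
  have := hn (z / d).val
  rw [ZMod.natCast_zmod_val, div_mul_cancel₀ z hd] at this
  rcases this with e | e | e
  · exact hz0 e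
  · exact hz1 e
  · exact hz e

theorem mul_mem {s x : ZMod p} (hs : IsSquare s) (hs0 : s ≠ 0) (hsL : s ∈ lineSet T 0 1)
    (hx : x ∈ lineSet T 0 1) : s * x ∈ lineSet T 0 1 := by
  have := h.mem_scale hs hs0 hx
  rwa [mul_zero, mul_one, h.line_eq hsL hs0] at this

/-- The third point of the line through `0` and `1`. -/
theorem exists_root (hneg : ¬ IsSquare (-1 : ZMod p)) :
    ∃ u : ZMod p, u * u - u + 1 = 0 ∧ ∀ z, T 0 1 z ↔ z = u := by
  classical
  have hsub : ∀ x ∈ lineSet T 0 1, x - 1 ∈ lineSet T 0 (-1) := by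
    intro x hx
    have := h.mem_shift (-1) hx
    rwa [zero_add, add_neg_cancel, ← sub_eq_add_neg, h.line_symm] at this
  have hadd : ∀ x ∈ lineSet T 0 (-1), x + 1 ∈ lineSet T 0 1 := by
    intro x hx
    have := h.mem_shift 1 hx
    rwa [zero_add, neg_add_cancel, h.line_symm] at this
  have hnegsq : ∀ {c : ZMod p}, c ≠ 0 → ¬ IsSquare c → IsSquare (-c) := by
    intro c hc hns
    have h1 : (-1 : ZMod p) ≠ 0 := neg_ne_zero.2 one_ne_zero
    rw [ZMod.euler_criterion p hc] at hns
    rw [ZMod.euler_criterion p h1] at hneg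
    rw [neg_eq_neg_one_mul, ZMod.euler_criterion p (mul_ne_zero h1 hc), mul_pow,
      (ZMod.pow_div_two_eq_neg_one_or_one p h1).resolve_left hneg,
      (ZMod.pow_div_two_eq_neg_one_or_one p hc).resolve_left hns, neg_mul_neg, one_mul]
  by_cases hmix : ∃ c ∈ lineSet T 0 1, c ≠ 0 ∧ ¬ IsSquare c
  · obtain ⟨c, hcL, hc0, hcns⟩ := hmix
    have hnc : -c ≠ 0 := neg_ne_zero.2 hc0
    have hsqc := hnegsq hc0 hcns
    have key : ∀ x, -c * x ∈ lineSet T 0 1 ↔ x ∈ lineSet T 0 (-1) := by
      intro x
      have := h.mem_scale_iff hsqc hnc (x := 0) (y := -1) (z := x)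
      rwa [mul_zero, mul_neg_one, neg_neg, h.line_eq hcL hc0] at this
    have honly : ∀ s ∈ lineSet T 0 1, s ≠ 0 → IsSquare s → s = 1 := by
      intro s hsL hs0 hs
      by_contra hs1
      refine h.not_translation (sub_ne_zero.2 hs1) fun x hx => ?_
      have h8 : ∀ y ∈ lineSet T 0 1, y - s + 1 ∈ lineSet T 0 1 := by
        intro y hy
        have hyi : s⁻¹ * y ∈ lineSet T 0 1 := by
          have := (h.mem_scale_iff hs hs0 (x := 0) (y := 1) (z := s⁻¹ * y)).1
          rw [mul_zero, mul_one, h.line_eq hsL hs0, mul_inv_cancel_left₀ hs0] at this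
          exact this hy
        have h6 := h.mul_mem hs hs0 hsL ((key _).2 (hsub _ hyi))
        rw [mul_left_comm, mul_sub, mul_one, mul_inv_cancel_left₀ hs0] at h6
        exact hadd _ ((key _).1 h6)
      -- iterate the translation by `1 - s` until it becomes `s - 1`
      have hn : ∀ n : ℕ, x + (n : ZMod p) * (1 - s) ∈ lineSet T 0 1 := by
        intro n
        induction n with
        | zero => simpa using hx
        | succ n ih =>
          have := h8 _ ih
          convert this using 1
          push_cast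
          ring
      have := hn ((-1 : ZMod p)).val
      rw [ZMod.natCast_zmod_val] at this
      convert this using 1
      ring
    have honlyc : ∀ c' ∈ lineSet T 0 1, c' ≠ 0 → c' = 1 ∨ c' = c := by
      intro c' hc' hc'0
      by_cases hs : IsSquare c'
      · exact Or.inl (honly c' hc' hc'0 hs)
      right
      have hs2 : IsSquare (c / c') := by
        have := hsqc.div (hnegsq hc'0 hs)
        rwa [neg_div_neg_eq] at this
      have h1 : c / c' * 1 ∈ lineSet T 0 1 := by
        have := h.mem_scale hs2 (div_ne_zero hc0 hc'0) (x := 0) (y := c') (z := 1)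
          (by rw [h.line_eq hc' hc'0]; exact Or.inr (Or.inl rfl))
        rwa [mul_zero, div_mul_cancel₀ c hc'0, h.line_eq hcL hc0] at this
      rw [mul_one] at h1
      exact ((div_eq_one_iff_eq hc'0).1 (honly _ h1 (div_ne_zero hc0 hc'0) hs2)).symm
    have hc1 : c ≠ 1 := fun e => hcns (e ▸ IsSquare.one)
    have hcT : T 0 1 c := hcL.elim (fun e => absurd e hc0) fun e => e.elim (fun e => absurd e hc1) id
    have hTz : ∀ z, T 0 1 z ↔ z = c := fun z => ⟨fun hz =>
      (honlyc z (Or.inr (Or.inr hz)) (h.ne hz).2.2.symm).resolve_left (h.ne hz).2.1.symm,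
      fun hz => hz ▸ hcT⟩
    refine ⟨c, ?_, hTz⟩
    have h1 := (key (c - 1)).2 (hsub c hcL)
    rcases honlyc _ h1 (mul_ne_zero hnc (sub_ne_zero.2 hc1)) with e | e
    · linear_combination -e
    · exfalso
      have h2 : c - 1 = -1 := by
        apply mul_left_cancel₀ hnc
        rw [e]; ring
      exact hc0 (by linear_combination h2)
  · push Not at hmix
    exfalso
    let S : Finset (ZMod p)ˣ := Finset.univ.filter fun v => (v : ZMod p) ∈ lineSet T 0 1
    let S' : Finset (ZMod p)ˣ := Finset.univ.filter fun v => -(v : ZMod p) ∈ lineSet T 0 (-1)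
    have hsq' : ∀ x ∈ lineSet T 0 (-1), x ≠ 0 → IsSquare (-x) := by
      intro x hx hx0
      by_cases hs : IsSquare x
      · exfalso
        have h1 : (-1 : ZMod p) ∈ lineSet T 0 x := by
          rw [h.line_eq hx hx0]
          exact Or.inr (Or.inl rfl)
        have h2 := h.mem_scale hs.inv (inv_ne_zero hx0) h1
        rw [mul_zero, inv_mul_cancel₀ hx0] at h2
        have h3 := hs.mul (hmix _ h2 (mul_ne_zero (inv_ne_zero hx0) (neg_ne_zero.2 one_ne_zero)))
        rw [mul_inv_cancel_left₀ hx0] at h3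
        exact hneg h3
      · exact hnegsq hx0 hs
    let H : Subgroup (ZMod p)ˣ := finSubgroup
      { carrier := {v | (v : ZMod p) ∈ lineSet T 0 1}
        one_mem' := Or.inr (Or.inl rfl)
        mul_mem' := fun {a b} ha hb =>
          h.mul_mem (hmix _ ha a.ne_zero) a.ne_zero ha hb }
    let H' : Subgroup (ZMod p)ˣ := finSubgroup
      { carrier := {v | -(v : ZMod p) ∈ lineSet T 0 (-1)}
        one_mem' := Or.inr (Or.inl (by simp))
        mul_mem' := fun {a b} ha hb => by
          have hs : IsSquare (a : ZMod p) := by simpa using hsq' _ ha (neg_ne_zero.2 a.ne_zero)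
          have := h.mem_scale hs a.ne_zero hb
          rw [mul_zero, mul_neg_one, h.line_eq ha (neg_ne_zero.2 a.ne_zero), mul_neg] at this
          exact this }
    have hcard : Nat.card H = Nat.card H' := by
      have hL : Nat.card {x : ZMod p // x ∈ lineSet T 0 1} =
          Nat.card {x : ZMod p // x ∈ lineSet T 0 (-1)} := Nat.card_congr
        { toFun := fun x => ⟨x - 1, hsub _ x.2⟩
          invFun := fun x => ⟨x + 1, hadd _ x.2⟩
          left_inv := fun x => by simp
          right_inv := fun x => by simp }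
      have hH : ∀ (P : Set (ZMod p)) (K : Subgroup (ZMod p)ˣ), (0 : ZMod p) ∈ P →
          (∀ v : (ZMod p)ˣ, v ∈ K ↔ (v : ZMod p) ∈ P) →
          Nat.card {x : ZMod p // x ∈ P} = Nat.card K + 1 := by
        intro P K h0 hK
        rw [← Finite.card_option]
        refine (Nat.card_eq_of_bijective (fun o : Option K => o.elim ⟨0, h0⟩
          fun v => (⟨(v : (ZMod p)ˣ), (hK _).1 v.2⟩ : {x // x ∈ P})) ⟨?_, ?_⟩).symm
        · rintro (_ | v) (_ | w) e <;> simp only [Option.elim, Subtype.mk.injEq] at e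
          · rfl
          · exact absurd e.symm (Units.ne_zero _)
          · exact absurd e (Units.ne_zero _)
          · exact congrArg some (Subtype.ext (Units.ext e))
        · rintro ⟨x, hx⟩
          by_cases hx0 : x = 0
          · exact ⟨none, Subtype.ext hx0.symm⟩
          · exact ⟨some ⟨Units.mk0 x hx0, (hK _).2 hx⟩, rfl⟩
      have h1 := hH (lineSet T 0 1) H (Or.inl rfl) fun v => Iff.rfl
      have h2 := hH {x | -x ∈ lineSet T 0 (-1)} H' (Or.inl neg_zero) fun v => Iff.rfl
      have h3 : Nat.card {x : ZMod p // x ∈ {x | -x ∈ lineSet T 0 (-1)}} =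
          Nat.card {x : ZMod p // x ∈ lineSet T 0 (-1)} :=
        Nat.card_congr ((Equiv.neg (ZMod p)).subtypeEquiv fun x => Iff.rfl)
      omega
    have hHH : ∀ v : (ZMod p)ˣ, v ∈ H' → v ∈ H := by
      intro v hv
      let R : Finset (ZMod p)ˣ := Finset.univ.filter fun w => w ^ Nat.card H = 1
      have hR : R.card ≤ Nat.card H := IsCyclic.card_pow_eq_one_le Nat.card_pos
      have hsub' : (H : Set (ZMod p)ˣ).toFinset = R := by
        refine Finset.eq_of_subset_of_card_le (fun w hw => ?_) ?_
        · rw [Set.mem_toFinset] at hw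
          refine Finset.mem_filter.2 ⟨Finset.mem_univ _, ?_⟩
          exact congrArg Subtype.val (pow_card_eq_one' (x := (⟨w, hw⟩ : H)))
        · rw [Set.toFinset_card, ← Nat.card_eq_fintype_card]
          exact hR
      have hvR : v ∈ R := by
        refine Finset.mem_filter.2 ⟨Finset.mem_univ _, ?_⟩
        rw [hcard]
        exact congrArg Subtype.val (pow_card_eq_one' (x := (⟨v, hv⟩ : H')))
      rw [← hsub', Set.mem_toFinset] at hvR
      exact hvR
    have hone : ∀ x ∈ lineSet T 0 1, 1 - x ∈ lineSet T 0 1 := by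
      intro x hx
      by_cases hx1 : x = 1
      · exact Or.inl (by rw [hx1, sub_self])
      have h1 : 1 - x ≠ 0 := sub_ne_zero.2 (Ne.symm hx1)
      exact hHH (Units.mk0 _ h1) (show -(1 - x) ∈ lineSet T 0 (-1) by
        rw [neg_sub]; exact hsub x hx)
    obtain ⟨z, hz⟩ := h.nonempty
    have hzL : z ∈ lineSet T 0 1 := Or.inr (Or.inr hz)
    have hz0 : z ≠ 0 := (h.ne hz).2.2.symm
    have hzs := hmix z hzL hz0
    refine h.not_translation (sub_ne_zero.2 (h.ne hz).2.1) fun x hx => ?_
    have hxi : z⁻¹ * x ∈ lineSet T 0 1 := by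
      have := (h.mem_scale_iff hzs hz0 (x := 0) (y := 1) (z := z⁻¹ * x)).1
      rw [mul_zero, mul_one, h.line_eq hzL hz0, mul_inv_cancel_left₀ hz0] at this
      exact this hx
    have h1 := h.mul_mem hzs hz0 hzL (hone _ hxi)
    rw [mul_sub, mul_one, mul_inv_cancel_left₀ hz0] at h1
    convert hone _ h1 using 1
    ring

/-- The lines as a binary operation. -/
theorem eq_third {u : ZMod p} (hT : ∀ z, T 0 1 z ↔ z = u)
    (hneg : ¬ IsSquare (-1 : ZMod p)) {x y z : ZMod p} (hxy : x ≠ y) (hz : T x y z) :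
    (IsSquare (y - x) → z = x + u * (y - x)) ∧ (¬ IsSquare (y - x) → z = y + u * (x - y)) := by
  have hgen : ∀ {a b c : ZMod p}, a ≠ b → T a b c → IsSquare (b - a) → c = a + u * (b - a) := by
    intro a b c hab habc hs
    have h0 : b - a ≠ 0 := sub_ne_zero.2 (Ne.symm hab)
    obtain ⟨w, hw⟩ := hs.inv
    have hw0 : w ≠ 0 := by
      rintro rfl
      exact inv_ne_zero h0 (by rw [hw, mul_zero])
    have := h.scale hw0 (h.shift (-a) habc)
    rw [add_neg_cancel, mul_zero, ← sub_eq_add_neg, ← sub_eq_add_neg, ← hw,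
      inv_mul_cancel₀ h0, hT] at this
    field_simp at this
    linear_combination this
  refine ⟨hgen hxy hz, fun hns => hgen hxy.symm (h.symm₁ hz) ?_⟩
  have h0 : y - x ≠ 0 := sub_ne_zero.2 (Ne.symm hxy)
  have h1 : (-1 : ZMod p) ≠ 0 := neg_ne_zero.2 one_ne_zero
  rw [ZMod.euler_criterion p h0] at hns
  rw [ZMod.euler_criterion p h1] at hneg
  rw [show x - y = -1 * (y - x) by ring, ZMod.euler_criterion p (mul_ne_zero h1 h0), mul_pow,
    (ZMod.pow_div_two_eq_neg_one_or_one p h1).resolve_left hneg,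
    (ZMod.pow_div_two_eq_neg_one_or_one p h0).resolve_left hns, neg_mul_neg, one_mul]

end Lines

end Cfsg.Agent.Grp.HalfNormalizer
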