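import Mathlib

/-!
Coordinates for an action on `p + 1` points of the group `SL(2, p)` with kernel inside the centre.
-/

set_option autoImplicit false

namespace Cfsg.Agent.Grp.HalfNormalizer

open MulAction

variable {p : ℕ} [hp : Fact p.Prime]

/-- The upper unitriangular matrices. -/
def nMat (z : ZMod p) : Matrix.SpecialLinearGroup (Fin 2) (ZMod p) :=
  ⟨!![1, z; 0, 1], by simp [Matrix.det_fin_two]⟩

/-- The diagonal matrices. -/
def dMat (u : (ZMod p)ˣ) : Matrix.SpecialLinearGroup (Fin 2) (ZMod p) :=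
  ⟨!![(u : ZMod p), 0; 0, ((u⁻¹ : (ZMod p)ˣ) : ZMod p)], by
    rw [Matrix.det_fin_two_of, mul_zero, sub_zero, Units.mul_inv]⟩

/-- The Weyl element. -/
def wMat : Matrix.SpecialLinearGroup (Fin 2) (ZMod p) :=
  ⟨!![0, 1; -1, 0], by simp [Matrix.det_fin_two]⟩

theorem coe_nMat (z : ZMod p) :
    ((nMat z : Matrix.SpecialLinearGroup (Fin 2) (ZMod p)) : Matrix (Fin 2) (Fin 2) (ZMod p)) =
      !![1, z; 0, 1] := rfl

theorem coe_dMat (u : (ZMod p)ˣ) :
    ((dMat u : Matrix.SpecialLinearGroup (Fin 2) (ZMod p)) : Matrix (Fin 2) (Fin 2) (ZMod p)) =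
      !![(u : ZMod p), 0; 0, ((u⁻¹ : (ZMod p)ˣ) : ZMod p)] := rfl

theorem coe_wMat :
    ((wMat : Matrix.SpecialLinearGroup (Fin 2) (ZMod p)) : Matrix (Fin 2) (Fin 2) (ZMod p)) =
      !![0, 1; -1, 0] := rfl

theorem nMat_mul (x y : ZMod p) : nMat x * nMat y = nMat (x + y) := by
  apply Subtype.ext
  simp only [Matrix.SpecialLinearGroup.coe_mul, coe_nMat, Matrix.mul_fin_two, mul_one, one_mul,
    mul_zero, zero_mul, add_zero, zero_add, add_comm y x]

theorem nMat_zero : nMat (0 : ZMod p) = 1 := by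
  apply Subtype.ext
  simp only [Matrix.SpecialLinearGroup.coe_one, coe_nMat, Matrix.one_fin_two]

theorem dMat_nMat (u : (ZMod p)ˣ) (x : ZMod p) :
    dMat u * nMat x = nMat ((u : ZMod p) * (u : ZMod p) * x) * dMat u := by
  apply Subtype.ext
  have h : (u : ZMod p) * (u : ZMod p) * x * ((u⁻¹ : (ZMod p)ˣ) : ZMod p) = (u : ZMod p) * x := by
    rw [mul_assoc, mul_comm x, ← mul_assoc, mul_assoc (u : ZMod p), Units.mul_inv, mul_one]
  simp only [Matrix.SpecialLinearGroup.coe_mul, coe_dMat, coe_nMat, Matrix.mul_fin_two, mul_one,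
    one_mul, mul_zero, zero_mul, add_zero, zero_add, h]

theorem dMat_wMat (u : (ZMod p)ˣ) : dMat u * wMat = wMat * dMat u⁻¹ := by
  apply Subtype.ext
  simp only [Matrix.SpecialLinearGroup.coe_mul, coe_dMat, coe_wMat, Matrix.mul_fin_two, mul_one,
    one_mul, mul_zero, zero_mul, add_zero, zero_add, inv_inv, mul_neg, neg_mul, neg_zero]

theorem wMat_nMat_wMat (z : (ZMod p)ˣ) : wMat * nMat (z : ZMod p) * wMat =
    nMat (-((z⁻¹ : (ZMod p)ˣ) : ZMod p)) * wMat * dMat (-z) *
      nMat (-((z⁻¹ : (ZMod p)ˣ) : ZMod p)) := by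
  apply Subtype.ext
  have hi : ((-z)⁻¹ : (ZMod p)ˣ) = -z⁻¹ := inv_neg
  simp only [Matrix.SpecialLinearGroup.coe_mul, coe_dMat, coe_nMat, coe_wMat, Matrix.mul_fin_two,
    mul_one, one_mul, mul_zero, zero_mul, add_zero, zero_add, mul_neg, neg_mul, neg_neg,
    Units.val_neg, hi, Units.inv_mul, Units.mul_inv, neg_zero, add_neg_cancel, neg_add_cancel]

theorem wMat_sq_mem_center :
    (wMat * wMat : Matrix.SpecialLinearGroup (Fin 2) (ZMod p)) ∈
      Subgroup.center (Matrix.SpecialLinearGroup (Fin 2) (ZMod p)) := by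
  rw [Matrix.SpecialLinearGroup.mem_center_iff]
  refine ⟨-1, by simp, ?_⟩
  ext i j
  rw [Matrix.SpecialLinearGroup.coe_mul, coe_wMat, Matrix.mul_fin_two]
  fin_cases i <;> fin_cases j <;> simp [Matrix.scalar_apply]

theorem nMat_one_notMem_center :
    nMat (1 : ZMod p) ∉ Subgroup.center (Matrix.SpecialLinearGroup (Fin 2) (ZMod p)) := by
  rw [Matrix.SpecialLinearGroup.mem_center_iff]
  rintro ⟨r, -, hr⟩
  have := congrFun (congrFun hr 0) 1
  simp [coe_nMat, Matrix.scalar_apply] at this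

theorem exists_bruhat (g : Matrix.SpecialLinearGroup (Fin 2) (ZMod p)) :
    (∃ u b, g = dMat u * nMat b) ∨ ∃ x u y, g = nMat x * wMat * dMat u * nMat y := by
  have hdet : g.1 0 0 * g.1 1 1 - g.1 0 1 * g.1 1 0 = 1 := by
    rw [← Matrix.det_fin_two, g.2]
  by_cases hc : g.1 1 0 = 0
  · left
    rw [hc, mul_zero, sub_zero] at hdet
    refine ⟨⟨g.1 0 0, g.1 1 1, hdet, by rw [mul_comm]; exact hdet⟩, g.1 1 1 * g.1 0 1, ?_⟩
    apply Subtype.ext
    rw [Matrix.SpecialLinearGroup.coe_mul, coe_dMat, coe_nMat, Matrix.mul_fin_two]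
    conv_lhs => rw [Matrix.eta_fin_two g.1]
    simp only [hc, mul_one, mul_zero, zero_mul, add_zero, zero_add, Units.inv_mk, ← mul_assoc,
      hdet, one_mul]
  · right
    refine ⟨g.1 0 0 / g.1 1 0, -Units.mk0 _ hc, g.1 1 1 / g.1 1 0, ?_⟩
    apply Subtype.ext
    have hi : (((-Units.mk0 _ hc)⁻¹ : (ZMod p)ˣ) : ZMod p) = -(g.1 1 0)⁻¹ := by
      rw [inv_neg, Units.val_neg, Units.val_inv_eq_inv_val, Units.val_mk0]
    simp only [Matrix.SpecialLinearGroup.coe_mul, coe_dMat, coe_nMat, coe_wMat,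
      Matrix.mul_fin_two, hi, Units.val_neg, Units.val_mk0]
    conv_lhs => rw [Matrix.eta_fin_two g.1]
    ext i j
    fin_cases i <;> fin_cases j <;> simp <;> field_simp
    linear_combination -hdet

variable {X Ω : Type*} [Group X] [MulAction X Ω]

/-- Coordinates: `ρ` lists the points other than `o`. -/
structure Coords (ψ : Matrix.SpecialLinearGroup (Fin 2) (ZMod p) →* X) (o : Ω) (ρ : ZMod p → Ω) :
    Prop where
  inj : Function.Injective ρ
  ne : ∀ z, ρ z ≠ o
  surj : ∀ b, b ≠ o → ∃ z, ρ z = b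
  n_fix : ∀ x, ψ (nMat x) • o = o
  n_smul : ∀ x z, ψ (nMat x) • ρ z = ρ (x + z)
  d_fix : ∀ u, ψ (dMat u) • o = o
  d_smul : ∀ (u : (ZMod p)ˣ) (z : ZMod p), ψ (dMat u) • ρ z = ρ ((u : ZMod p) * u * z)
  w_fix : ψ wMat • o = ρ 0
  w_zero : ψ wMat • ρ 0 = o
  w_smul : ∀ z : (ZMod p)ˣ, ψ wMat • ρ z = ρ (-((z⁻¹ : (ZMod p)ˣ) : ZMod p))

theorem exists_coords [FaithfulSMul X Ω] [Fintype Ω] (hΩ : Fintype.card Ω = p + 1)
    (ψ : Matrix.SpecialLinearGroup (Fin 2) (ZMod p) →* X)
    (hker : ∀ g, ψ g = 1 ↔ g ∈ Subgroup.center (Matrix.SpecialLinearGroup (Fin 2) (ZMod p)))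
    (htr : ∀ a b : Ω, ∃ g, ψ g • a = b) : ∃ o ρ, Coords (Ω := Ω) ψ o ρ := by
  classical
  have hn : ∀ z : ZMod p, nMat z = nMat (1 : ZMod p) ^ z.val := by
    intro z
    have : ∀ k : ℕ, nMat (1 : ZMod p) ^ k = nMat (k : ZMod p) := by
      intro k
      induction k with
      | zero => rw [pow_zero, Nat.cast_zero, nMat_zero]
      | succ k ih => rw [pow_succ, ih, nMat_mul, Nat.cast_succ]
    rw [this, ZMod.natCast_zmod_val]
  set x : X := ψ (nMat 1) with hx
  have hx1 : x ≠ 1 := fun e => nMat_one_notMem_center ((hker _).1 e)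
  have hxp : x ^ p = 1 := by
    rw [hx, ← map_pow]
    have : nMat (1 : ZMod p) ^ p = 1 := by
      have h := hn (-1)
      have : ∀ k : ℕ, nMat (1 : ZMod p) ^ k = nMat (k : ZMod p) := by
        intro k
        induction k with
        | zero => rw [pow_zero, Nat.cast_zero, nMat_zero]
        | succ k ih => rw [pow_succ, ih, nMat_mul, Nat.cast_succ]
      rw [this, ZMod.natCast_self, nMat_zero]
    rw [this, map_one]
  have hord : orderOf x = p := orderOf_eq_prime hxp hx1
  have hP : IsPGroup p (Subgroup.zpowers x) := IsPGroup.of_card (n := 1) (by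
    rw [Nat.card_zpowers, hord, pow_one])
  have hmod := hP.card_modEq_card_fixedPoints Ω
  rw [Nat.card_eq_fintype_card, hΩ] at hmod
  have hone : Nat.card (fixedPoints (Subgroup.zpowers x) Ω) % p = 1 := by
    rw [← hmod, Nat.add_mod_left, Nat.mod_eq_of_lt hp.out.one_lt]
  obtain ⟨o, ho⟩ : ∃ o : Ω, x • o = o := by
    have : Nonempty (fixedPoints (Subgroup.zpowers x) Ω) := by
      by_contra hh
      rw [not_nonempty_iff] at hh
      rw [Nat.card_of_isEmpty] at hone
      simp at hone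
    obtain ⟨⟨o, ho⟩⟩ := this
    exact ⟨o, ho ⟨x, Subgroup.mem_zpowers x⟩⟩
  have hfixpow : ∀ (b : Ω), x • b = b → ∀ z : ZMod p, ψ (nMat z) • b = b := by
    intro b hb z
    rw [hn, map_pow, ← hx]
    induction z.val with
    | zero => simp
    | succ k ih => rw [pow_succ, mul_smul, hb, ih]
  have huniq : ∀ b : Ω, x • b = b → b = o := by
    intro b hb
    by_contra hbo
    have h2 : 2 ≤ Nat.card (fixedPoints (Subgroup.zpowers x) Ω) := by
      have hmem : ∀ c : Ω, x • c = c → c ∈ fixedPoints (Subgroup.zpowers x) Ω := by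
        rintro c hc ⟨g, hg⟩
        show g • c = c
        exact (Subgroup.zpowers_le (H := stabilizer X c)).2 hc hg
      rw [Nat.card_eq_fintype_card]
      exact Fintype.one_lt_card_iff.2 ⟨⟨b, hmem b hb⟩, ⟨o, hmem o ho⟩, fun e =>
        hbo (congrArg Subtype.val e)⟩
    have hle : Nat.card (fixedPoints (Subgroup.zpowers x) Ω) ≤ p + 1 :=
      (Nat.card_mono Set.finite_univ (Set.subset_univ _)).trans_eq (by
        rw [Nat.card_univ, Nat.card_eq_fintype_card, hΩ])
    have hall : Nat.card (fixedPoints (Subgroup.zpowers x) Ω) = p + 1 := by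
      rcases Nat.lt_or_ge (Nat.card (fixedPoints (Subgroup.zpowers x) Ω)) p with h | h
      · rw [Nat.mod_eq_of_lt h] at hone
        omega
      · rcases Nat.eq_or_lt_of_le h with h' | h'
        · rw [← h', Nat.mod_self] at hone
          omega
        · omega
    have huniv : fixedPoints (Subgroup.zpowers x) Ω = Set.univ :=
      Set.eq_univ_iff_ncard _ |>.2 (by rw [← Nat.card_coe_set_eq, hall, Nat.card_eq_fintype_card, hΩ])
    refine hx1 (FaithfulSMul.eq_of_smul_eq_smul (α := Ω) fun c => ?_)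
    rw [one_smul]
    exact (huniv.ge (Set.mem_univ c) : c ∈ fixedPoints (Subgroup.zpowers x) Ω)
      ⟨x, Subgroup.mem_zpowers x⟩
  have hw2 : ψ wMat * ψ wMat = 1 := by rw [← map_mul]; exact (hker _).2 wMat_sq_mem_center
  have hd : ∀ u : (ZMod p)ˣ, ψ (dMat u) • o = o := by
    intro u
    apply huniq
    have hu : (u : ZMod p) * u * ((u⁻¹ : (ZMod p)ˣ) * (u⁻¹ : (ZMod p)ˣ)) = 1 := by
      rw [mul_mul_mul_comm, u.mul_inv, one_mul]
    rw [hx, ← mul_smul, ← map_mul, ← hu, ← dMat_nMat, map_mul, mul_smul, hfixpow o ho]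
  have hwo : ψ wMat • o ≠ o := by
    intro hw
    have hall : ∀ g, ψ g • o = o := by
      intro g
      rcases exists_bruhat g with ⟨u, b, rfl⟩ | ⟨a, u, b, rfl⟩
      · rw [map_mul, mul_smul, hfixpow o ho, hd]
      · simp only [map_mul, mul_smul, hfixpow o ho, hd, hw]
    have : Fintype.card Ω ≤ 1 := Fintype.card_le_one_iff.2 fun a b => by
      obtain ⟨g, hg⟩ := htr o a
      obtain ⟨k, hk⟩ := htr o b
      rw [← hg, ← hk, hall, hall]
    have := hp.out.two_le
    omega
  let ρ : ZMod p → Ω := fun z => ψ (nMat z) • ψ wMat • o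
  have hshift : ∀ a z, ψ (nMat a) • ρ z = ρ (a + z) := fun a z => by
    show ψ (nMat a) • ψ (nMat z) • ψ wMat • o = _
    rw [← mul_smul, ← map_mul, nMat_mul]
  have hρne : ∀ z, ρ z ≠ o := by
    intro z e
    have h := congrArg (ψ (nMat (-z)) • ·) e
    simp only [hshift, neg_add_cancel, hfixpow o ho] at h
    exact hwo (by rw [show ψ wMat • o = ρ 0 by simp [ρ, nMat_zero]]; exact h)
  have hρinj : Function.Injective ρ := by
    intro a b e
    by_contra hab
    have h1 : ψ (nMat (b - a)) • ρ a = ρ a := by rw [hshift, sub_add_cancel, e]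
    have h2 : x • ρ a = ρ a := by
      have h3 : ∀ k : ℕ, ψ (nMat ((k : ZMod p) * (b - a))) • ρ a = ρ a := by
        intro k
        induction k with
        | zero => simp [nMat_zero]
        | succ k ih => rw [Nat.cast_succ, add_mul, one_mul, ← nMat_mul, map_mul, mul_smul, h1, ih]
      have := h3 ((b - a)⁻¹).val
      rwa [ZMod.natCast_zmod_val, inv_mul_cancel₀ (sub_ne_zero.2 (Ne.symm hab))] at this
    exact hρne a (huniq _ h2)
  refine ⟨o, ρ, ⟨hρinj, hρne, ?_, hfixpow o ho, hshift, hd, ?_, by simp [ρ, nMat_zero], ?_, ?_⟩⟩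
  · have hcard : (Finset.univ.image ρ) = Finset.univ.erase o := by
      refine Finset.eq_of_subset_of_card_le ?_ ?_
      · intro b hb
        obtain ⟨z, -, rfl⟩ := Finset.mem_image.1 hb
        exact Finset.mem_erase.2 ⟨hρne z, Finset.mem_univ _⟩
      · rw [Finset.card_image_of_injective _ hρinj, Finset.card_univ, ZMod.card,
          Finset.card_erase_of_mem (Finset.mem_univ _), Finset.card_univ, hΩ]
        omega
    intro b hb
    obtain ⟨z, -, hz⟩ := Finset.mem_image.1 (hcard.ge (Finset.mem_erase.2 ⟨hb, Finset.mem_univ b⟩))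
    exact ⟨z, hz⟩
  · intro u z
    show ψ (dMat u) • ψ (nMat z) • ψ wMat • o = ψ (nMat _) • ψ wMat • o
    rw [← mul_smul, ← map_mul, dMat_nMat, map_mul, mul_smul, ← mul_smul (ψ (dMat u)), ← map_mul,
      dMat_wMat, map_mul, mul_smul, hd]
  · show ψ wMat • ψ (nMat 0) • ψ wMat • o = o
    rw [nMat_zero, map_one, one_smul, ← mul_smul, hw2, one_smul]
  · intro z
    show ψ wMat • ψ (nMat (z : ZMod p)) • ψ wMat • o = ψ (nMat _) • ψ wMat • o
    rw [← mul_smul, ← mul_smul, ← map_mul, ← map_mul, wMat_nMat_wMat]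
    simp only [map_mul, mul_smul, hfixpow o ho, hd]

end Cfsg.Agent.Grp.HalfNormalizer
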