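import Cfsg.Agent.Lib.Grp.HalfNormalizer.SLTwo
import Cfsg.Agent.Lib.Grp.HalfNormalizer.System
import Cfsg.Agent.Lib.Block.PrimeTwoP.Basic

/-!
The point stabiliser of an overgroup of the projective special linear group inside the alternating
group of the projective line.
-/

set_option autoImplicit false

namespace Cfsg.Agent.Grp.HalfNormalizer

open MulAction

variable {p : ℕ} [hp : Fact p.Prime]

theorem isSquare_neg {z : ZMod p} (hneg : ¬ IsSquare (-1 : ZMod p)) (hz : z ≠ 0)
    (h : ¬ IsSquare z) : IsSquare (-z) := by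
  rw [← neg_one_mul z, isSquare_mul_iff (neg_ne_zero.2 one_ne_zero) hz]
  exact iff_of_false hneg h

variable {X Ω : Type*} [Group X] [MulAction X Ω]
  {ψ : Matrix.SpecialLinearGroup (Fin 2) (ZMod p) →* X} {o : Ω} {ρ : ZMod p → Ω}

theorem Coords.ext [FaithfulSMul X Ω] (h : Coords ψ o ρ) {g k : X} (ho : g • o = k • o)
    (hρ : ∀ z, g • ρ z = k • ρ z) : g = k :=
  FaithfulSMul.eq_of_smul_eq_smul (α := Ω) fun b => by
    by_cases hb : b = o
    · rw [hb, ho]
    · obtain ⟨z, rfl⟩ := h.surj b hb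
      exact hρ z

theorem Coords.pretransitive (h : Coords ψ o ρ) : IsPretransitive X Ω := by
  refine (MulAction.isPretransitive_iff_base o).2 fun b => ?_
  by_cases hb : b = o
  · exact ⟨1, by rw [one_smul, hb]⟩
  · obtain ⟨z, rfl⟩ := h.surj b hb
    exact ⟨ψ (nMat z) * ψ wMat, by rw [mul_smul, h.w_fix, h.n_smul, add_zero]⟩

variable [Finite X] [FaithfulSMul X Ω] [Fintype Ω] [DecidableEq Ω]

/-- An even permutation fixing `o` and multiplying the coordinates can only do so by a square. -/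
theorem Coords.isSquare_of_even (h : Coords ψ o ρ)
    (heven : ∀ x : X, Equiv.Perm.sign (MulAction.toPerm x : Equiv.Perm Ω) = 1)
    (y : X) (hy : y • o = o) {c : ZMod p} (hc : c ≠ 0) (hyρ : ∀ z, y • ρ z = ρ (c * z)) :
    IsSquare c := by
  classical
  by_contra hns
  obtain ⟨g, hg⟩ := IsCyclic.exists_generator (α := (ZMod p)ˣ)
  have hgns : ¬ IsSquare (g : ZMod p) := by
    rintro ⟨r, hr⟩
    apply hns
    obtain ⟨k, hk⟩ := Subgroup.mem_zpowers_iff.1 (hg (Units.mk0 c hc))
    have hr0 : r ≠ 0 := fun e => g.ne_zero (by rw [hr, e, mul_zero])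
    have hgr : g = Units.mk0 r hr0 * Units.mk0 r hr0 := Units.ext hr
    refine ⟨((Units.mk0 r hr0 ^ k : (ZMod p)ˣ) : ZMod p), ?_⟩
    rw [← Units.val_mul, ← mul_zpow, ← hgr, hk, Units.val_mk0]
  obtain ⟨s, hs⟩ : IsSquare ((g : ZMod p) * c⁻¹) :=
    (isSquare_mul_iff g.ne_zero (inv_ne_zero hc)).2
      (iff_of_false hgns fun e => hns (isSquare_inv.1 e))
  have hs0 : s ≠ 0 := fun e => mul_ne_zero g.ne_zero (inv_ne_zero hc) (by rw [hs, e, mul_zero])
  set π : Equiv.Perm Ω := MulAction.toPerm (ψ (dMat (Units.mk0 s hs0)) * y) with hπ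
  have hπo : π o = o := by
    show (ψ (dMat (Units.mk0 s hs0)) * y) • o = o
    rw [mul_smul, hy, h.d_fix]
  have hπρ : ∀ z, π (ρ z) = ρ ((g : ZMod p) * z) := fun z => by
    show (ψ (dMat (Units.mk0 s hs0)) * y) • ρ z = _
    rw [mul_smul, hyρ, h.d_smul, Units.val_mk0, ← hs, ← mul_assoc, mul_assoc (g : ZMod p),
      inv_mul_cancel₀ hc, mul_one]
  have hpow : ∀ k : ℕ, (π ^ k) (ρ 1) = ρ ((g ^ k : (ZMod p)ˣ) : ZMod p) := by
    intro k
    induction k with
    | zero => simp
    | succ k ih => rw [pow_succ', Equiv.Perm.mul_apply, ih, hπρ, pow_succ', Units.val_mul]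
  have hsupp : ∀ b, π b ≠ b ↔ ∃ u : (ZMod p)ˣ, ρ u = b := by
    intro b
    constructor
    · intro hb
      have hbo : b ≠ o := fun e => hb (by rw [e, hπo])
      obtain ⟨z, rfl⟩ := h.surj b hbo
      have hz : z ≠ 0 := by
        rintro rfl
        exact hb (by rw [hπρ, mul_zero])
      exact ⟨Units.mk0 z hz, rfl⟩
    · rintro ⟨u, rfl⟩ e
      rw [hπρ] at e
      apply hgns
      rw [mul_eq_right₀ u.ne_zero |>.1 (h.inj e)]
      exact IsSquare.one
  have hcyc : π.IsCycle := by
    refine ⟨ρ 1, (hsupp _).2 ⟨1, by rw [Units.val_one]⟩, fun b hb => ?_⟩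
    obtain ⟨u, rfl⟩ := (hsupp b).1 hb
    obtain ⟨k, rfl⟩ := mem_powers_iff_mem_zpowers.2 (hg u)
    exact ⟨k, by rw [zpow_natCast, hpow]⟩
  have hcard : π.support.card = p - 1 := by
    have : π.support = Finset.univ.image fun u : (ZMod p)ˣ => ρ u := by
      ext b
      rw [Equiv.Perm.mem_support, hsupp]
      simp
    have hinj : Function.Injective fun u : (ZMod p)ˣ => ρ (u : ZMod p) :=
      fun u v e => Units.ext (h.inj e)
    rw [this, Finset.card_image_of_injective _ hinj, Finset.card_univ, ZMod.card_units p]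
  have h1 := heven (ψ (dMat (Units.mk0 s hs0)) * y)
  rw [← hπ, hcyc.sign, hcard] at h1
  rcases hp.out.eq_two_or_odd with h2 | h2
  · subst h2
    exact hns (by fin_cases c <;> first | exact absurd rfl hc | exact IsSquare.one)
  · rw [(Nat.even_iff.2 (by omega : (p - 1) % 2 = 0)).neg_one_pow] at h1
    exact absurd h1 (by decide)

/-- The point stabiliser satisfies the hypotheses on a group of prime degree. -/
theorem Coords.hyp (h : Coords ψ o ρ) (hΩ : Fintype.card Ω = p + 1)
    (heven : ∀ x : X, Equiv.Perm.sign (MulAction.toPerm x : Equiv.Perm Ω) = 1)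
    (hne : ψ.range ≠ ⊤) :
    Hyp (stabilizer X o) (SubMulAction.ofStabilizer X o) p ∧
      FaithfulSMul (stabilizer X o) (SubMulAction.ofStabilizer X o) := by
  classical
  have hcard : Nat.card (SubMulAction.ofStabilizer X o) = p := by
    rw [SubMulAction.nat_card_ofStabilizer_eq, Nat.card_eq_fintype_card, hΩ, Nat.add_sub_cancel]
  have hfaith : FaithfulSMul (stabilizer X o) (SubMulAction.ofStabilizer X o) := by
    refine ⟨fun {g k} hgk => Subtype.ext (h.ext (g.2.trans k.2.symm) fun z => ?_)⟩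
    exact congrArg Subtype.val (hgk ⟨ρ z, h.ne z⟩)
  refine ⟨?_, hfaith⟩
  let e : ZMod p ≃ SubMulAction.ofStabilizer X o := Equiv.ofBijective (fun z => ⟨ρ z, h.ne z⟩)
    ⟨fun a b hab => h.inj (congrArg Subtype.val hab), fun b => by
      obtain ⟨z, hz⟩ := h.surj b b.2
      exact ⟨z, Subtype.ext hz⟩⟩
  let σ : stabilizer X o := ⟨ψ (nMat 1), h.n_fix 1⟩
  have hσ : ∀ j, σ • e j = e (j + 1) := fun j => Subtype.ext (by
    show ψ (nMat 1) • ρ j = ρ (j + 1)
    rw [h.n_smul, add_comm])
  have htrans : IsPretransitive (stabilizer X o) (SubMulAction.ofStabilizer X o) := by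
    refine (MulAction.isPretransitive_iff_base (e 0)).2 fun b => ?_
    obtain ⟨z, rfl⟩ := e.surjective b
    exact ⟨⟨ψ (nMat z), h.n_fix z⟩, Subtype.ext (by
      show ψ (nMat z) • ρ 0 = ρ z
      rw [h.n_smul, add_zero])⟩
  refine ⟨hcard, htrans, fun hsol => hne ?_, e, ⟨σ, hσ⟩, fun u hu => ?_⟩
  swap
  · exact ⟨⟨ψ (dMat (Units.mk0 u hu)), h.d_fix _⟩, fun j => Subtype.ext (h.d_smul _ j)⟩
  have := Fintype.ofFinite (SubMulAction.ofStabilizer X o)
  let f : stabilizer X o →*
      (MulAction.toPermHom (stabilizer X o) (SubMulAction.ofStabilizer X o)).range :=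
    (MulAction.toPermHom _ _).rangeRestrict
  have hf : Function.Injective f :=
    (MonoidHom.rangeRestrict_injective_iff).2 MulAction.toPerm_injective
  have : IsPretransitive (MulAction.toPermHom (stabilizer X o) (SubMulAction.ofStabilizer X o)).range
      (SubMulAction.ofStabilizer X o) :=
    ⟨fun x y => by
      obtain ⟨g, hg⟩ := MulAction.exists_smul_eq (stabilizer X o) x y
      exact ⟨f g, hg⟩⟩
  have : Group.IsSolvable
      (MulAction.toPermHom (stabilizer X o) (SubMulAction.ofStabilizer X o)).range :=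
    Group.isSolvable_of_surjective (MonoidHom.rangeRestrict_surjective _)
  have hα : Fintype.card (SubMulAction.ofStabilizer X o) = p := by
    rw [← Nat.card_eq_fintype_card, hcard]
  have hσn : ∀ (n : ℕ) j, (σ ^ n) • e j = e (j + n) := by
    intro n
    induction n with
    | zero => simp
    | succ n ih =>
      intro j
      rw [pow_succ', mul_smul, ih, hσ, Nat.cast_succ, add_assoc]
  have hord : orderOf σ = p := by
    refine orderOf_eq_prime (FaithfulSMul.eq_of_smul_eq_smul
      (α := SubMulAction.ofStabilizer X o) fun z => ?_) fun e1 => ?_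
    · obtain ⟨j, rfl⟩ := e.surjective z
      rw [hσn, ZMod.natCast_self, add_zero, one_smul]
    · have := hσ 0
      rw [e1, one_smul, zero_add] at this
      exact zero_ne_one (e.injective this)
  have hQp : IsPGroup p (Subgroup.zpowers (f σ)) := IsPGroup.of_card (n := 1) (by
    rw [Nat.card_zpowers, orderOf_injective f hf, hord, pow_one])
  obtain ⟨P, hP⟩ := hQp.exists_le_sylow
  have hPeq : (P : Subgroup _) = Subgroup.zpowers (f σ) := by
    refine (Subgroup.eq_of_le_of_card_ge hP ?_).symm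
    rw [Cfsg.Agent.Block.primeDeg_card_sylow hα _ P, Nat.card_zpowers, orderOf_injective f hf, hord]
  have hPn := Cfsg.Agent.Block.PrimeTwoP.normal_of_solvable hα _ P
  have hstab : ∀ y : stabilizer X o, (y : X) ∈ ψ.range := by
    intro y
    have hmem : f y * f σ * (f y)⁻¹ ∈ Subgroup.zpowers (f σ) :=
      hPeq ▸ hPn.conj_mem _ (hPeq ▸ Subgroup.mem_zpowers _) _
    obtain ⟨i, hi⟩ := mem_powers_iff_mem_zpowers.2 hmem
    have hcomm : y * σ = σ ^ i * y := by
      refine hf ?_
      rw [map_mul, map_mul, map_pow, show f σ ^ i = f y * f σ * (f y)⁻¹ from hi, inv_mul_cancel_right]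
    obtain ⟨x, hx⟩ := e.surjective (y • e 0)
    have hlin : ∀ j, y • e j = e (x + (i : ZMod p) * j) := by
      intro j
      rw [← ZMod.natCast_zmod_val j]
      induction j.val with
      | zero => simp [hx]
      | succ n ih =>
        rw [Nat.cast_succ, ← hσ, ← mul_smul, hcomm, mul_smul, ih, hσn]
        ring_nf
    have hi0 : (i : ZMod p) ≠ 0 := by
      intro h0
      have h1 := hlin 1
      rw [h0, zero_mul, add_zero, hx] at h1
      exact zero_ne_one (e.injective (MulAction.injective y h1).symm)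
    have hlinX : ∀ j, (y : X) • ρ j = ρ (x + (i : ZMod p) * j) :=
      fun j => congrArg Subtype.val (hlin j)
    obtain ⟨r, hr⟩ := h.isSquare_of_even heven (ψ (nMat (-x)) * y)
      (by rw [mul_smul, y.2, h.n_fix]) hi0
      (fun j => by rw [mul_smul, hlinX, h.n_smul, neg_add_cancel_left])
    have hr0 : r ≠ 0 := fun e => hi0 (by rw [hr, e, mul_zero])
    refine ⟨nMat x * dMat (Units.mk0 r hr0), h.ext ?_ fun j => ?_⟩
    · rw [y.2, map_mul, mul_smul, h.d_fix, h.n_fix]
    · rw [hlinX, map_mul, mul_smul, h.d_smul, h.n_smul, Units.val_mk0, hr]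
  refine eq_top_iff.2 fun g _ => ?_
  by_cases hgo : g • o = o
  · exact hstab ⟨g, hgo⟩
  · obtain ⟨z, hz⟩ := h.surj _ hgo
    have h1 : ((ψ (nMat z) * ψ wMat)⁻¹ * g) • o = o := by
      rw [mul_smul, inv_smul_eq_iff, mul_smul, h.w_fix, h.n_smul, add_zero, hz]
    have h2 := mul_mem (mul_mem (⟨_, rfl⟩ : ψ (nMat z) ∈ ψ.range) (⟨_, rfl⟩ : ψ wMat ∈ ψ.range))
      (hstab ⟨_, h1⟩)
    rwa [mul_inv_cancel_left] at h2

end Cfsg.Agent.Grp.HalfNormalizer
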